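import Groth.Agent.FMult38.SubFac
import Groth.Agent.Grpd80.SubDescent
import Groth.Agent.RedPts82.SubGrp
import Groth.Agent.RedPts82.DSChar
import Groth.Agent.SpFP87.RepDescProps

/-!
Descent of closed subgroups along flat surjective maps of parameters, and the translation between
subobjects of `G ⊗ M` and subgroup schemes over `M`.
-/

set_option autoImplicit false
set_option backward.isDefEq.respectTransparency.types false
universe u

open CategoryTheory MonoidalCategory CartesianMonoidalCategory MonObj GrpObj AlgebraicGeometry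
open CategoryTheory.Limits

noncomputable section

namespace Groth.Agent.FMult38

open SGA3a.QuotCover RedPts82

variable {S : Scheme.{u}} {G : Over S}

/-- Closed subobjects descend along flat surjective quasi-compact maps of parameters. -/
theorem exists_descend {Z U M : Over S} (mU : Z ⟶ G ⊗ U) [IsClosedImmersion mU.left] (π : U ⟶ M)
    [Flat π.left] [Surjective π.left] [QuasiCompact π.left]
    (hst : ∀ (T : Over S) (a b : T ⟶ U), a ≫ π = b ≫ π → Agree mU a b) :
    ∃ (Q : Over S) (mK : Q ⟶ G ⊗ M), IsClosedImmersion mK.left ∧ Same mU mK π := by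
  let p := (G ◁ π).left
  have sq := SGA3a.QuotDiag.isPullback_whiskerLeft_snd G π
  haveI : Flat p := MorphismProperty.of_isPullback (P := @Flat) sq (inferInstanceAs (Flat π.left))
  haveI : Surjective p := MorphismProperty.of_isPullback (P := @Surjective) sq (inferInstanceAs (Surjective π.left))
  haveI : QuasiCompact p := MorphismProperty.of_isPullback (P := @QuasiCompact) sq (inferInstanceAs (QuasiCompact π.left))
  haveI : MorphismProperty.DescendsAlong (@IsClosedImmersion : MorphismProperty Scheme.{u})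
      (@Surjective ⊓ @Flat ⊓ @QuasiCompact) := Unr55.isClosedImmersion
  have hfac : ∀ {A : Scheme.{u}} (z : A ⟶ (G ⊗ U).left),
      (∃ v, v ≫ (Subobject.mk mU.left).arrow = z) ↔ ∃ v, v ≫ mU.left = z := fun z => by
    constructor
    · rintro ⟨v, rfl⟩
      exact ⟨v ≫ (Subobject.underlyingIso mU.left).hom, by rw [Category.assoc, Subobject.underlyingIso_hom_comp_eq_mk]⟩
    · rintro ⟨v, rfl⟩
      exact ⟨v ≫ (Subobject.underlyingIso mU.left).inv, by rw [Category.assoc, Subobject.underlyingIso_arrow]⟩
  have key : ∀ {A : Scheme.{u}} (a b : A ⟶ (G ⊗ U).left), a ≫ p = b ≫ p →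
      (∃ v, v ≫ mU.left = a) → ∃ v, v ≫ mU.left = b := by
    intro A a b hab ha
    let X : Over S := Over.mk (a ≫ (G ⊗ U).hom)
    let aO : X ⟶ G ⊗ U := Over.homMk a rfl
    let bO : X ⟶ G ⊗ U := Over.homMk b (by
      show b ≫ (G ⊗ U).hom = a ≫ (G ⊗ U).hom
      rw [← Over.w (G ◁ π), ← Category.assoc, ← Category.assoc]
      exact congrArg (· ≫ (G ⊗ M).hom) hab.symm)
    have habO : aO ≫ (G ◁ π) = bO ≫ (G ◁ π) := Over.OverMorphism.ext hab
    have h1 : aO ≫ fst G U = bO ≫ fst G U := by
      have := congrArg (· ≫ fst G M) habO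
      simpa using this
    have h2 : (aO ≫ snd G U) ≫ π = (bO ≫ snd G U) ≫ π := by
      have := congrArg (· ≫ snd G M) habO
      simpa using this
    have e : ∀ (c : X ⟶ G ⊗ U),
        CartesianMonoidalCategory.lift (c ≫ fst G U) (𝟙 X) ≫ (G ◁ (c ≫ snd G U)) = c := fun c => by
      rw [lift_whiskerLeft, Category.id_comp, ← comp_lift, lift_fst_snd, Category.comp_id]
    obtain ⟨v, hv⟩ := ha
    have hfa : Fac mU aO := ⟨Over.homMk v (by
      show v ≫ Z.hom = a ≫ (G ⊗ U).hom
      rw [← Over.w mU, ← Category.assoc, hv]), Over.OverMorphism.ext hv⟩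
    have := hst X _ _ h2 X (CartesianMonoidalCategory.lift (aO ≫ fst G U) (𝟙 X))
    rw [e aO, h1, e bO] at this
    obtain ⟨q, hq⟩ := this.1 hfa
    exact ⟨q.left, congrArg CommaMorphism.left hq⟩
  have hmem : Subobject.mk mU.left ∈ {Y : Subobject (G ⊗ U).left | IsClosedImmersion Y.arrow ∧
      (Subobject.pullback (pullback.fst p p)).obj Y = (Subobject.pullback (pullback.snd p p)).obj Y} := by
    refine ⟨?_, ?_⟩
    · show IsClosedImmersion (Subobject.mk mU.left).arrow
      rw [← Subobject.underlyingIso_hom_comp_eq_mk]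
      infer_instance
    · have hle : ∀ (f g : pullback p p ⟶ (G ⊗ U).left), f ≫ p = g ≫ p →
          (Subobject.pullback f).obj (Subobject.mk mU.left) ≤ (Subobject.pullback g).obj (Subobject.mk mU.left) := by
        intro f g hfg
        let z := ((Subobject.pullback f).obj (Subobject.mk mU.left)).arrow
        have h1 : ∃ v, v ≫ mU.left = z ≫ f := (hfac _).1
          ((Grpd80.factors_pullback_iff f _ z).1 ⟨𝟙 _, Category.id_comp _⟩)
        have h2 := key (z ≫ f) (z ≫ g) (by rw [Category.assoc, hfg, Category.assoc]) h1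
        obtain ⟨v, hv⟩ := (Grpd80.factors_pullback_iff g _ z).2 ((hfac _).2 h2)
        exact Subobject.le_of_comm v hv
      exact le_antisymm (hle _ _ pullback.condition) (hle _ _ pullback.condition.symm)
  obtain ⟨y, hy, hyeq⟩ := (Grpd80.bijOn_pullback p @IsClosedImmersion (fun {A B} f (hf : IsClosedImmersion f) => inferInstance)
    (fun {A B} f (hf : IsClosedImmersion f) =>
      SpFP87.isIndQuasiAffineHom_of_isAffineHom f)).surjOn hmem
  let Q : Over S := Over.mk (y.arrow ≫ (G ⊗ M).hom)
  let mK : Q ⟶ G ⊗ M := Over.homMk y.arrow rfl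
  refine ⟨Q, mK, hy, fun X x => ?_⟩
  have h1 := Grpd80.factors_pullback_iff p y x.left
  rw [hyeq, hfac] at h1
  constructor
  · rintro ⟨q, rfl⟩
    obtain ⟨v, hv⟩ := h1.1 ⟨q.left, rfl⟩
    refine ⟨Over.homMk v ?_, Over.OverMorphism.ext hv⟩
    show v ≫ y.arrow ≫ (G ⊗ M).hom = X.hom
    rw [← Category.assoc, hv, Category.assoc, Over.w (G ◁ π), Over.w]
  · rintro ⟨q, hq⟩
    obtain ⟨v, hv⟩ := h1.2 ⟨q.left, congrArg CommaMorphism.left hq⟩
    refine ⟨Over.homMk v ?_, Over.OverMorphism.ext hv⟩
    show v ≫ Z.hom = X.hom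
    rw [← Over.w mU, ← Category.assoc, hv, Over.w]

section Group

variable [GrpObj G]

/-- The points of a subobject of `G ⊗ M` over each point of `M` form a subgroup. -/
structure SubPts {Q M : Over S} (m : Q ⟶ G ⊗ M) : Prop where
  one : ∀ (X : Over S) (t : X ⟶ M), Fac m (CartesianMonoidalCategory.lift 1 t)
  mul : ∀ (X : Over S) (t : X ⟶ M) (a b : X ⟶ G), Fac m (CartesianMonoidalCategory.lift a t) →
    Fac m (CartesianMonoidalCategory.lift b t) → Fac m (CartesianMonoidalCategory.lift (a * b) t)
  inv : ∀ (X : Over S) (t : X ⟶ M) (a : X ⟶ G), Fac m (CartesianMonoidalCategory.lift a t) →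
    Fac m (CartesianMonoidalCategory.lift a⁻¹ t)

/-- Being a subgroup descends. -/
theorem SubPts.descend {Z Q U M : Over S} {mU : Z ⟶ G ⊗ U} {mK : Q ⟶ G ⊗ M} [Mono mK] {π : U ⟶ M}
    (hπ : IsCov π.left) (hUK : Same mU mK π) (h : SubPts mU) : SubPts mK := by
  have hc : ∀ {X : Over S} (t : X ⟶ M), IsCov (pullback.fst t π).left := fun t =>
    IsCov.of_isPullback ((IsPullback.of_hasPullback t π).map (Over.forget S)).flip hπ
  have he : ∀ {X : Over S} (t : X ⟶ M) (a : X ⟶ G),
      Fac mU (CartesianMonoidalCategory.lift (pullback.fst t π ≫ a) (pullback.snd t π)) ↔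
        Fac mK (pullback.fst t π ≫ CartesianMonoidalCategory.lift a t) := fun t a => by
    rw [hUK _ _, lift_whiskerLeft, ← pullback.condition, comp_lift]
  refine ⟨fun X t => Fac.of_cov _ (hc t) ?_, fun X t a b ha hb => Fac.of_cov _ (hc t) ?_,
    fun X t a ha => Fac.of_cov _ (hc t) ?_⟩
  · rw [← he, MonObj.comp_one]
    exact h.one _ _
  · rw [← he, MonObj.comp_mul]
    exact h.mul _ _ _ _ ((he t a).2 (ha.comp _)) ((he t b).2 (hb.comp _))
  · rw [← he, GrpObj.comp_inv]
    exact h.inv _ _ _ ((he t a).2 (ha.comp _))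

/-- The scheme over `M` underlying a subobject of `G ⊗ M`. -/
abbrev subK {Q M : Over S} (m : Q ⟶ G ⊗ M) : Over M.left := Over.mk (m.left ≫ pullback.snd G.hom M.hom)

/-- Its map to the base change of `G`. -/
def subJ {Q M : Over S} (m : Q ⟶ G ⊗ M) : subK m ⟶ Red.bc M.hom G := Over.homMk m.left rfl

/-- The structure point of an object over the parameters. -/
def paramPt {M : Over S} (Y : Over M.left) : (Over.map M.hom).obj Y ⟶ M := Over.homMk Y.hom rfl

theorem fac_subJ_iff {Q M : Over S} (m : Q ⟶ G ⊗ M) (Y : Over M.left) (y : Y ⟶ Red.bc M.hom G) :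
    (∃ e, e ≫ subJ m = y) ↔ Fac m (CartesianMonoidalCategory.lift (toBase M.hom y) (paramPt Y)) := by
  have hleft : (CartesianMonoidalCategory.lift (toBase M.hom y) (paramPt Y)).left = y.left := by
    refine pullback.hom_ext ?_ ?_
    · exact (Over.comp_left _ _ _ _ _).symm.trans
        ((congrArg CommaMorphism.left (lift_fst (toBase M.hom y) (paramPt Y))).trans (toBase_left M.hom y))
    · exact (Over.comp_left _ _ _ _ _).symm.trans
        ((congrArg CommaMorphism.left (lift_snd (toBase M.hom y) (paramPt Y))).trans (Over.w y).symm)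
  constructor
  · rintro ⟨e, rfl⟩
    refine ⟨Over.homMk e.left ?_, Over.OverMorphism.ext hleft.symm⟩
    show e.left ≫ Q.hom = Y.hom ≫ M.hom
    rw [← Over.w m, ← Over.w e]
    show _ = (e.left ≫ m.left ≫ pullback.snd G.hom M.hom) ≫ M.hom
    rw [show (G ⊗ M).hom = pullback.fst G.hom M.hom ≫ G.hom from rfl, pullback.condition]
    simp only [Category.assoc]
  · rintro ⟨q, hq⟩
    have hq' : q.left ≫ m.left = y.left := (congrArg CommaMorphism.left hq).trans hleft
    refine ⟨Over.homMk q.left ?_, Over.OverMorphism.ext hq'⟩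
    show q.left ≫ m.left ≫ pullback.snd G.hom M.hom = Y.hom
    rw [← Category.assoc, hq']
    exact Over.w y

/-- A subobject of `G ⊗ M` closed under the operations is a subgroup scheme over `M`. -/
theorem exists_subgroup {Q M : Over S} (m : Q ⟶ G ⊗ M) [IsImmersion m.left] (h : SubPts m) :
    ∃ _ : GrpObj (subK m), IsMonHom (subJ m) := by
  haveI : IsImmersion (subJ m).left := inferInstanceAs (IsImmersion m.left)
  haveI : Mono (subJ m) := Over.mono_of_mono_left _
  refine exists_grpObj_mono (subJ m) (fun T => (fac_subJ_iff m T 1).2 ?_)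
    (fun T a b => (fac_subJ_iff m T _).2 ?_) (fun T a => (fac_subJ_iff m T _).2 ?_)
  · rw [toBase_one]; exact h.one _ _
  · rw [toBase_mul]
    exact h.mul _ _ _ _ ((fac_subJ_iff m T _).1 ⟨a, rfl⟩) ((fac_subJ_iff m T _).1 ⟨b, rfl⟩)
  · have e : toBase M.hom (a ≫ subJ m)⁻¹ = (toBase M.hom (a ≫ subJ m))⁻¹ := by
      refine eq_inv_of_mul_eq_one_left ?_
      rw [← toBase_mul, inv_mul_cancel, toBase_one]
    rw [e]
    exact h.inv _ _ _ ((fac_subJ_iff m T _).1 ⟨a, rfl⟩)

end Group

/-- A subscheme of a base change of `G`, as a subobject of the product with the parameters. -/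
def ofSub {T : Scheme.{u}} (f : T ⟶ S) {K' : Over T} (j' : K' ⟶ Red.bc f G) :
    Over.mk (K'.hom ≫ f) ⟶ G ⊗ Over.mk f :=
  Over.homMk j'.left (by
    show j'.left ≫ pullback.fst G.hom f ≫ G.hom = K'.hom ≫ f
    rw [pullback.condition, ← Over.w j']
    exact (Category.assoc _ _ _).symm)

/-- Equality of a subscheme with a pulled back subgroup scheme, through points. -/
theorem same_iff_iso {Q M : Over S} (m : Q ⟶ G ⊗ M) [Mono m.left] {T : Scheme.{u}} (f : T ⟶ S) {K' : Over T}
    (j' : K' ⟶ Red.bc f G) [Mono j'.left] (v : Over.mk f ⟶ M) :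
    Same (ofSub f j') m v ↔
      ∃ φ : K'.left ≅ (Red.bc v.left (subK m)).left,
        φ.hom ≫ (Red.bc v.left (subK m)).hom = K'.hom ∧
        φ.hom ≫ ((Over.pullback v.left).map (subJ m)).left ≫ pullback.fst (Red.bc M.hom G).hom v.left ≫
          pullback.fst G.hom M.hom = j'.left ≫ pullback.fst G.hom f := by
  let P := Red.bc v.left (subK m)
  let g₀ := ((Over.pullback v.left).map (subJ m)).left ≫ pullback.fst (Red.bc M.hom G).hom v.left ≫
    pullback.fst G.hom M.hom
  have hg : g₀ = pullback.fst (subK m).hom v.left ≫ m.left ≫ pullback.fst G.hom M.hom := by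
    show ((Over.pullback v.left).map (subJ m)).left ≫ _ ≫ _ = _
    exact pullback.lift_fst_assoc _ _ _ _
  have hv : v.left ≫ M.hom = f := Over.w v
  have hgw : g₀ ≫ G.hom = pullback.snd (subK m).hom v.left ≫ f := by
    rw [hg, Category.assoc, Category.assoc, pullback.condition,
      ← Category.assoc m.left, show m.left ≫ pullback.snd G.hom M.hom = (subK m).hom from rfl,
      pullback.condition_assoc, hv]
  let ψ : P.left ⟶ pullback G.hom f := pullback.lift g₀ (pullback.snd (subK m).hom v.left) hgw
  have hψmono : Mono ψ := ⟨fun {A} a b hab => by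
    have h1 := congrArg (· ≫ pullback.fst G.hom f) hab
    have h2 := congrArg (· ≫ pullback.snd G.hom f) hab
    simp only [ψ, Category.assoc, pullback.lift_fst, pullback.lift_snd, hg] at h1 h2
    refine pullback.hom_ext ?_ h2
    rw [← cancel_mono m.left, Category.assoc, Category.assoc]
    refine pullback.hom_ext ?_ ?_
    · simpa only [Category.assoc] using h1
    · simp only [Category.assoc]
      rw [show m.left ≫ pullback.snd G.hom M.hom = (subK m).hom from rfl, pullback.condition, reassoc_of% h2]⟩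
  -- factorisation through `ψ`
  have hψ : ∀ (X : Over S) (x : X ⟶ G ⊗ Over.mk f), Fac m (x ≫ (G ◁ v)) ↔ ∃ e, e ≫ ψ = x.left := by
    intro X x
    have hw1 : (x ≫ (G ◁ v)).left ≫ pullback.fst G.hom M.hom = x.left ≫ pullback.fst G.hom f := by
      rw [Over.comp_left, Category.assoc]
      exact congrArg (x.left ≫ ·) (Over.whiskerLeft_left_fst v)
    have hw2 : (x ≫ (G ◁ v)).left ≫ pullback.snd G.hom M.hom = (x.left ≫ pullback.snd G.hom f) ≫ v.left := by
      rw [Over.comp_left, Category.assoc, Category.assoc]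
      exact congrArg (x.left ≫ ·) (Over.whiskerLeft_left_snd v)
    constructor
    · rintro ⟨q, hq⟩
      have hq' : q.left ≫ m.left = (x ≫ (G ◁ v)).left := congrArg CommaMorphism.left hq
      refine ⟨pullback.lift q.left (x.left ≫ pullback.snd G.hom f) ?_, ?_⟩
      · show q.left ≫ m.left ≫ pullback.snd G.hom M.hom = _
        rw [← Category.assoc, hq', hw2]
      · apply pullback.hom_ext
        · simp only [ψ, Category.assoc, pullback.lift_fst, hg, pullback.lift_fst_assoc]
          rw [← Category.assoc, hq', hw1]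
        · simp only [ψ, Category.assoc, pullback.lift_snd]
    · rintro ⟨e, he⟩
      have he1 := congrArg (· ≫ pullback.fst G.hom f) he
      have he2 := congrArg (· ≫ pullback.snd G.hom f) he
      simp only [ψ, Category.assoc, pullback.lift_fst, pullback.lift_snd, hg] at he1 he2
      have hl : (e ≫ pullback.fst (subK m).hom v.left) ≫ m.left = (x ≫ (G ◁ v)).left := by
        refine pullback.hom_ext ?_ ?_
        · rw [hw1, ← he1]; simp only [Category.assoc]
        · rw [hw2, ← he2]
          simp only [Category.assoc]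
          rw [show m.left ≫ pullback.snd G.hom M.hom = (subK m).hom from rfl, pullback.condition]
      refine ⟨Over.homMk (e ≫ pullback.fst (subK m).hom v.left) ?_, Over.OverMorphism.ext hl⟩
      show _ ≫ Q.hom = X.hom
      rw [← Over.w m, ← Category.assoc, hl, Over.w (x ≫ (G ◁ v))]
  constructor
  · intro h
    obtain ⟨a, ha⟩ := (hψ _ (ofSub f j')).1 ((h _ _).1 ⟨𝟙 _, Category.id_comp _⟩)
    let X : Over S := Over.mk (pullback.snd (subK m).hom v.left ≫ f)
    let x : X ⟶ G ⊗ Over.mk f := Over.homMk ψ (by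
      show ψ ≫ pullback.fst G.hom f ≫ G.hom = _
      rw [← Category.assoc, pullback.lift_fst, hgw]; rfl)
    obtain ⟨b, hb⟩ := (h X x).2 ((hψ X x).2 ⟨𝟙 _, Category.id_comp _⟩)
    have ha' : a ≫ ψ = j'.left := ha
    have hb' : b.left ≫ j'.left = ψ := congrArg CommaMorphism.left hb
    refine ⟨⟨a, b.left, ?_, ?_⟩, ?_, ?_⟩
    · rw [← cancel_mono j'.left, Category.assoc, hb', ha', Category.id_comp]
    · rw [← cancel_mono ψ, Category.assoc, ha', hb', Category.id_comp]
    · show a ≫ pullback.snd (subK m).hom v.left = K'.hom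
      have := congrArg (· ≫ pullback.snd G.hom f) ha'
      simp only [ψ, Category.assoc, pullback.lift_snd] at this
      exact this.trans (Over.w j')
    · have := congrArg (· ≫ pullback.fst G.hom f) ha'
      simp only [ψ, Category.assoc, pullback.lift_fst] at this
      exact this
  · rintro ⟨φ, h1, h2⟩ X x
    have hφ : φ.hom ≫ ψ = j'.left := by
      apply pullback.hom_ext
      · rw [Category.assoc, pullback.lift_fst]; exact h2
      · rw [Category.assoc, pullback.lift_snd]
        exact h1.trans (Over.w j').symm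
    rw [hψ]
    constructor
    · rintro ⟨q, rfl⟩
      exact ⟨q.left ≫ φ.hom, by rw [Category.assoc, hφ]; rfl⟩
    · rintro ⟨e, he⟩
      have hq : (e ≫ φ.inv) ≫ j'.left = x.left := by rw [Category.assoc, ← hφ, Iso.inv_hom_id_assoc, he]
      refine ⟨Over.homMk (e ≫ φ.inv) ?_, Over.OverMorphism.ext hq⟩
      show (e ≫ φ.inv) ≫ K'.hom ≫ f = X.hom
      rw [← Over.w x]
      show _ = x.left ≫ pullback.fst G.hom f ≫ G.hom
      rw [pullback.condition, ← Over.w j', ← hq]
      simp only [Category.assoc]
      rfl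

end Groth.Agent.FMult38
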