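import Groth.Agent.FMult38.SubFac
import Groth.Agent.Hens22.Couple
import Groth.Agent.Sga84.FiniteSigma
import Groth.Prelude.Def_Grpd

/-!
Groupoids of equivalence relations given by a monomorphism, and maps of disjoint unions.
-/

set_option autoImplicit false
set_option backward.isDefEq.respectTransparency.types false
set_option linter.style.haveILetI false
universe u

open CategoryTheory MonoidalCategory CartesianMonoidalCategory AlgebraicGeometry
open CategoryTheory.Limits

noncomputable section

namespace Groth.Agent.FMult38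

/-- A property local on the target holds for a disjoint union of morphisms as soon as it holds for
each of them. -/
theorem prop_sigmaMap (P : MorphismProperty Scheme.{u}) [IsZariskiLocalAtTarget P] {σ : Type u}
    {X X₀ : σ → Scheme.{u}} (i : ∀ j, X₀ j ⟶ X j) (h : ∀ j, P (i j)) : P (Limits.Sigma.map i) := by
  rw [IsZariskiLocalAtTarget.iff_of_openCover (P := P) (sigmaOpenCover X)]
  intro j
  have H : IsPullback (Sigma.ι X₀ j) (i j) (Limits.Sigma.map i) (Sigma.ι X j) := by
    refine (IsOpenImmersion.isPullback (i j) (Sigma.ι X₀ j) (Sigma.ι X j) (Limits.Sigma.map i)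
      (Limits.Sigma.ι_map _ _) ?_).flip
    refine TopologicalSpace.Opens.ext (Set.ext fun z => ⟨fun hz => ?_, ?_⟩)
    · obtain ⟨x, hx⟩ := hz
      obtain ⟨k, w, rfl⟩ := (sigmaOpenCover X₀).exists_eq z
      have hz' : Limits.Sigma.map i (Sigma.ι X₀ k w) = Sigma.ι X j x := hx.symm
      have h2 : Sigma.ι X k (i k w) = Sigma.ι X j x := by
        rw [← hz', ← Scheme.Hom.comp_apply, ← Scheme.Hom.comp_apply, Limits.Sigma.ι_map]
      obtain rfl : k = j := by
        by_contra hkj
        exact Set.disjoint_iff.1
          (TopologicalSpace.Opens.coe_disjoint.2 (disjoint_opensRange_sigmaι X k j hkj))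
          ⟨⟨_, h2⟩, ⟨x, rfl⟩⟩
      exact ⟨w, rfl⟩
    · rintro ⟨w, rfl⟩
      refine ⟨i j w, ?_⟩
      rw [← Scheme.Hom.comp_apply, ← Scheme.Hom.comp_apply, Limits.Sigma.ι_map]
  show P (pullback.snd (Limits.Sigma.map i) (Sigma.ι X j))
  rw [← H.isoPullback_inv_snd, P.cancel_left_of_respectsIso]
  exact h j

variable {S : Scheme.{u}}

/-- The inclusion into a disjoint union is an open immersion. -/
instance isOpenImmersion_inclO {ι : Type u} (T : ι → Over S) (i : ι) : IsOpenImmersion (inclO T i).left :=
  inferInstanceAs (IsOpenImmersion (Sigma.ι (fun i => (T i).left) i))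

instance mono_inclO {ι : Type u} (T : ι → Over S) (i : ι) : Mono (inclO T i) :=
  Over.mono_of_mono_left _

/-- Every point of a disjoint union lies in a member. -/
theorem exists_inclO_eq {ι : Type u} (T : ι → Over S) (z : (sigmaO T).left) :
    ∃ i x, (inclO T i).left x = z :=
  (sigmaOpenCover fun i => (T i).left).exists_eq z

/-- The inclusion of the part of a scheme mapping into a member of a disjoint union. -/
def partI {X Y Z : Over S} (f : X ⟶ Z) (j : Y ⟶ Z) [IsOpenImmersion j.left] :
    Over.mk ((f.left ⁻¹ᵁ j.left.opensRange).ι ≫ X.hom) ⟶ X :=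
  Over.homMk (f.left ⁻¹ᵁ j.left.opensRange).ι rfl

instance isOpenImmersion_partI {X Y Z : Over S} (f : X ⟶ Z) (j : Y ⟶ Z) [IsOpenImmersion j.left] :
    IsOpenImmersion (partI f j).left :=
  inferInstanceAs (IsOpenImmersion (f.left ⁻¹ᵁ j.left.opensRange).ι)

theorem exists_partI_lift {X Y Z : Over S} (f : X ⟶ Z) (j : Y ⟶ Z) [IsOpenImmersion j.left] :
    ∃ g, g ≫ j = partI f j ≫ f := by
  have hr : Set.range ((f.left ⁻¹ᵁ j.left.opensRange).ι ≫ f.left) ⊆ Set.range j.left := by
    rintro _ ⟨x, rfl⟩
    exact x.2
  refine ⟨Over.homMk (IsOpenImmersion.lift j.left _ hr) ?_, Over.OverMorphism.ext (IsOpenImmersion.lift_fac _ _ hr)⟩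
  show IsOpenImmersion.lift j.left _ hr ≫ Y.hom = _
  rw [← Over.w j, ← Category.assoc, IsOpenImmersion.lift_fac, Category.assoc, Over.w f]
  rfl

/-- A scheme mapping to a disjoint union is covered by its parts over the members. -/
theorem exists_mem_partI {X : Over S} {ι : Type u} {T : ι → Over S} (f : X ⟶ sigmaO T) (x : X.left) :
    ∃ i, x ∈ Set.range (partI f (inclO T i)).left := by
  obtain ⟨i, y, hy⟩ := exists_inclO_eq T (f.left x)
  exact ⟨i, ⟨x, ⟨y, hy⟩⟩, rfl⟩

/-- Morphisms into distinct members of a disjoint union agree only on the empty scheme. -/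
theorem eq_of_inclO_eq {ι : Type u} {T : ι → Over S} {X : Over S} {i j : ι} {f : X ⟶ T i} {g : X ⟶ T j}
    (h : f ≫ inclO T i = g ≫ inclO T j) (x : X.left) : i = j := by
  by_contra hij
  have := isEmpty_of_commSq_sigmaι_of_ne (g := fun i => (T i).left) ⟨congrArg CommaMorphism.left h⟩ hij
  exact this.false x

theorem hinj_of_mono {U R : Over S} (s t : R ⟶ U) [Mono (CartesianMonoidalCategory.lift t s)] {T : Scheme.{u}}
    (α β : T ⟶ R.left) (h1 : α ≫ t.left = β ≫ t.left) (h2 : α ≫ s.left = β ≫ s.left) : α = β := by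
  let X : Over S := Over.mk (α ≫ R.hom)
  let a : X ⟶ R := Over.homMk α rfl
  let b : X ⟶ R := Over.homMk β (by
    show β ≫ R.hom = α ≫ R.hom
    rw [← Over.w t, ← Category.assoc, ← Category.assoc, h1])
  have : a = b := by
    rw [← cancel_mono (CartesianMonoidalCategory.lift t s), comp_lift, comp_lift]
    congr 1
    · exact Over.OverMorphism.ext h1
    · exact Over.OverMorphism.ext h2
  exact congrArg CommaMorphism.left this

theorem exists_relComp {U R : Over S} (s t : R ⟶ U)
    (htrans : ∀ (X : Over S) (a b : X ⟶ R), a ≫ s = b ≫ t → ∃ c : X ⟶ R, c ≫ t = a ≫ t ∧ c ≫ s = b ≫ s) :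
    ∃ c : pullback s.left t.left ⟶ R.left, c ≫ t.left = pullback.fst s.left t.left ≫ t.left ∧
      c ≫ s.left = pullback.snd s.left t.left ≫ s.left := by
  let P : Over S := Over.mk (pullback.fst s.left t.left ≫ R.hom)
  let a : P ⟶ R := Over.homMk (pullback.fst s.left t.left) rfl
  let b : P ⟶ R := Over.homMk (pullback.snd s.left t.left) (by
    show pullback.snd s.left t.left ≫ R.hom = pullback.fst s.left t.left ≫ R.hom
    rw [← Over.w t, ← Category.assoc, ← pullback.condition, Category.assoc, Over.w s, Over.w t])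
  obtain ⟨c, hct, hcs⟩ := htrans P a b (Over.OverMorphism.ext pullback.condition)
  exact ⟨c.left, congrArg CommaMorphism.left hct, congrArg CommaMorphism.left hcs⟩

/-- The groupoid of an equivalence relation given by a monomorphism. -/
def relGrpd {U R : Over S} (s t : R ⟶ U) [Mono (CartesianMonoidalCategory.lift t s)]
    (e : U ⟶ R) (he : e ≫ t = 𝟙 U ∧ e ≫ s = 𝟙 U) (i : R ⟶ R) (hi : i ≫ t = s ∧ i ≫ s = t)
    (htrans : ∀ (X : Over S) (a b : X ⟶ R), a ≫ s = b ≫ t → ∃ c : X ⟶ R, c ≫ t = a ≫ t ∧ c ≫ s = b ≫ s) :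
    Grpd.GroupoidScheme S :=
  have het : e.left ≫ t.left = 𝟙 _ := congrArg CommaMorphism.left he.1
  have hes : e.left ≫ s.left = 𝟙 _ := congrArg CommaMorphism.left he.2
  have hit : i.left ≫ t.left = s.left := congrArg CommaMorphism.left hi.1
  have his : i.left ≫ s.left = t.left := congrArg CommaMorphism.left hi.2
  have hct : ∀ {T : Scheme.{u}} (α β : T ⟶ R.left) (h : α ≫ s.left = β ≫ t.left),
      (pullback.lift α β h ≫ (exists_relComp s t htrans).choose) ≫ t.left = α ≫ t.left := fun α β h => by
    rw [Category.assoc, (exists_relComp s t htrans).choose_spec.1, pullback.lift_fst_assoc]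
  have hcs : ∀ {T : Scheme.{u}} (α β : T ⟶ R.left) (h : α ≫ s.left = β ≫ t.left),
      (pullback.lift α β h ≫ (exists_relComp s t htrans).choose) ≫ s.left = β ≫ s.left := fun α β h => by
    rw [Category.assoc, (exists_relComp s t htrans).choose_spec.2, pullback.lift_snd_assoc]
  { U := U.left, R := R.left, pU := U.hom, pR := R.hom, s := s.left, t := t.left, e := e.left, i := i.left
    c := (exists_relComp s t htrans).choose
    s_over := Over.w s
    t_over := Over.w t
    comp_s := hcs
    comp_t := hct
    assoc := fun α β γ h₁ h₂ => hinj_of_mono s t _ _ (by rw [hct, hct, hct]) (by rw [hcs, hcs, hcs])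
    e_s := hes
    e_t := het
    comp_e := fun α => hinj_of_mono s t _ _ (hct _ _ _) (by
      rw [hcs, Category.assoc, Category.assoc, hes, Category.comp_id])
    e_comp := fun α => hinj_of_mono s t _ _ (by rw [hct, Category.assoc, Category.assoc, het, Category.comp_id])
      (hcs _ _ _)
    i_s := his
    i_t := hit
    comp_i := fun α => hinj_of_mono s t _ _ (by rw [hct, Category.assoc, Category.assoc, het, Category.comp_id])
      (by rw [hcs, Category.assoc, Category.assoc, Category.assoc, his, hes, Category.comp_id])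
    i_comp := fun α => hinj_of_mono s t _ _ (by rw [hct, Category.assoc, Category.assoc, Category.assoc, hit, het, Category.comp_id])
      (by rw [hcs, Category.assoc, Category.assoc, hes, Category.comp_id]) }

end Groth.Agent.FMult38
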