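import Groth.Agent.FMult38.MonoLocus
import Groth.Agent.FMult38.Descend
import Groth.Agent.FMult38.RelGrpd
import Groth.Agent.RedPts82.HomFinFlat
import Groth.Agent.RedPts82.Extension

/-!
The atlas of finite diagonalisable subgroups of an affine group, and the equivalence relation of having
the same image.
-/

set_option autoImplicit false
set_option backward.isDefEq.respectTransparency.types false
set_option linter.style.haveILetI false
universe u

open CategoryTheory MonoidalCategory CartesianMonoidalCategory MonObj GrpObj AlgebraicGeometry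
open CategoryTheory.Limits

noncomputable section

namespace Groth.Agent.FMult38

open RedPts82 SGA3a.QuotCover

/-- Finite commutative group structures on standard finite sets. -/
structure FRaw : Type where
  n : ℕ
  grp : AddCommGroup (Fin n)

/-- The underlying set. -/
def FRaw.Car (a : FRaw) : Type := Fin a.n

instance (a : FRaw) : AddCommGroup a.Car := a.grp

instance (a : FRaw) : Finite a.Car := inferInstanceAs (Finite (Fin a.n))

/-- Isomorphism of finite commutative groups. -/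
instance frawSetoid : Setoid FRaw where
  r a b := Nonempty (a.Car ≃+ b.Car)
  iseqv := ⟨fun a => ⟨AddEquiv.refl _⟩, fun ⟨e⟩ => ⟨e.symm⟩, fun ⟨e⟩ ⟨e'⟩ => ⟨e.trans e'⟩⟩

/-- The isomorphism types of finite commutative groups. -/
abbrev Idx : Type u := ULift.{u} (Quotient frawSetoid)

/-- A group of given type. -/
abbrev Car (i : Idx.{u}) : Type := (Quotient.out i.down).Car

theorem exists_idx (A : Type) [AddCommGroup A] [Finite A] : ∃ i : Idx.{u}, Nonempty (A ≃+ Car i) := by
  let e : A ≃ Fin (Nat.card A) := Finite.equivFin A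
  let a : FRaw := ⟨Nat.card A, e.symm.addCommGroup⟩
  let e' : A ≃+ a.Car :=
    { toEquiv := e
      map_add' := fun x y => by
        show e (x + y) = e (e.symm (e x) + e.symm (e y))
        simp }
  refine ⟨ULift.up (Quotient.mk frawSetoid a), ?_⟩
  obtain ⟨e''⟩ : Nonempty ((Quotient.out (Quotient.mk frawSetoid a)).Car ≃+ a.Car) :=
    Quotient.exact (Quotient.out_eq (Quotient.mk frawSetoid a))
  exact ⟨e'.trans e''.symm⟩

theorem idx_eq_of_addEquiv {i j : Idx.{u}} (e : Car i ≃+ Car j) : i = j := by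
  refine ULift.ext _ _ ?_
  rw [← Quotient.out_eq i.down, ← Quotient.out_eq j.down]
  exact Quotient.sound ⟨e⟩

variable {S : Scheme.{u}}

/-- Morphisms agreeing near every point are equal. -/
theorem hom_ext_local {X Y : Over S} {f g : X ⟶ Y}
    (h : ∀ x : X.left, ∃ (X' : Over S) (j : X' ⟶ X) (_ : IsOpenImmersion j.left),
      x ∈ Set.range j.left ∧ j ≫ f = j ≫ g) : f = g := by
  choose X' j hj hx he using h
  haveI : ∀ x, IsOpenImmersion (j x).left := hj
  have hc := isCov_descO j fun x => ⟨x, hx x⟩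
  haveI := epi_of_isCov (descO j) hc
  rw [← cancel_epi (descO j)]
  exact hom_ext_sigmaO fun x => by rw [inclO_descO_assoc, inclO_descO_assoc, he]

/-- Factoring through a monomorphism is local. -/
theorem Fac.of_local {Z X Y : Over S} {m : Z ⟶ Y} [Mono m] {f : X ⟶ Y}
    (h : ∀ x : X.left, ∃ (X' : Over S) (j : X' ⟶ X) (_ : IsOpenImmersion j.left),
      x ∈ Set.range j.left ∧ Fac m (j ≫ f)) : Fac m f := by
  choose X' j hj hx he using h
  haveI : ∀ x, IsOpenImmersion (j x).left := hj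
  refine Fac.of_cov (descO j) (isCov_descO j fun x => ⟨x, hx x⟩) ?_
  choose q hq using he
  exact ⟨descO q, hom_ext_sigmaO fun x => by rw [inclO_descO_assoc, inclO_descO_assoc, hq]⟩

variable (G : Over S) [GrpObj G]

/-- The scheme of monomorphisms of a finite diagonalisable group. -/
structure MonoScheme (A : Type) [AddCommGroup A] where
  P : Over S
  u : Red.DS S A ⊗ P ⟶ G
  hom : AutFam.IsHomFamily (Red.DS S A) G u
  mono : MonoFam u
  univ : ∀ (T : Over S) (φ : Red.DS S A ⊗ T ⟶ G), AutFam.IsHomFamily (Red.DS S A) G φ → MonoFam φ →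
    ∃ p : T ⟶ P, (Red.DS S A ◁ p) ≫ u = φ
  ext : ∀ {T : Over S} {p q : T ⟶ P}, (Red.DS S A ◁ p) ≫ u = (Red.DS S A ◁ q) ≫ u → p = q
  aff : IsAffineHom P.hom
  lfp : LocallyOfFinitePresentation P.hom

variable [IsAffineHom G.hom] [LocallyOfFinitePresentation G.hom]

theorem nonempty_monoScheme (A : Type) [AddCommGroup A] [Finite A] : Nonempty (MonoScheme G A) := by
  haveI := isFinite_DS S A
  haveI := lfp_DS S A
  haveI : Flat (Red.DS S A).hom := flat_DS_hom S A
  obtain ⟨A₀, υ, hυ, haff, -, hlfp⟩ := HomFF.exists_homGrpScheme (Red.DS S A) G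
  obtain ⟨U, hUc, hU⟩ := exists_mono_locus A υ hυ.1
  let P : Over S := Over.mk (U.ι ≫ A₀.hom)
  let j : P ⟶ A₀ := Over.homMk U.ι rfl
  haveI : Mono j.left := inferInstanceAs (Mono U.ι)
  haveI : Mono j := Over.mono_of_mono_left j
  haveI : LocallyOfFinitePresentation A₀.hom := hlfp ‹_›
  haveI : IsClosedImmersion U.ι := IsClosedImmersion.of_isPreimmersion _ (by rw [U.range_ι]; exact hUc)
  refine ⟨⟨P, (Red.DS S A ◁ j) ≫ υ, fun X g g' t => ?_, (hU P j).2 fun p => p.2, fun T φ hφ hm => ?_,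
    fun {T p q} h => ?_, inferInstanceAs (IsAffineHom (U.ι ≫ A₀.hom)),
    inferInstanceAs (LocallyOfFinitePresentation (U.ι ≫ A₀.hom))⟩⟩
  · simp only [lift_whiskerLeft_assoc]
    exact hυ.1 X g g' _
  · obtain ⟨a, ha, -⟩ := hυ.2 T φ hφ
    have hr : Set.range a.left ⊆ Set.range U.ι := by
      rw [U.range_ι]
      rintro _ ⟨p, rfl⟩
      exact (hU T a).1 (by rw [ha]; exact hm) p
    let p : T ⟶ P := Over.homMk (IsOpenImmersion.lift U.ι a.left hr) (by
      show IsOpenImmersion.lift U.ι a.left hr ≫ U.ι ≫ A₀.hom = T.hom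
      rw [IsOpenImmersion.lift_fac_assoc, Over.w a])
    refine ⟨p, ?_⟩
    rw [← Category.assoc, ← MonoidalCategory.whiskerLeft_comp,
      show p ≫ j = a from Over.OverMorphism.ext (IsOpenImmersion.lift_fac _ _ hr), ha]
  · rw [← cancel_mono j]
    refine (hυ.2 T _ ?_).unique ?_ rfl
    · intro X g g' t
      simp only [lift_whiskerLeft_assoc]
      exact hυ.1 X g g' _
    · simpa only [MonoidalCategory.whiskerLeft_comp, Category.assoc] using h

/-- A chosen scheme of monomorphisms. -/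
def mS (i : Idx.{u}) : MonoScheme G (Car i) := (nonempty_monoScheme G (Car i)).some

/-- The parameters of monomorphisms of a given type. -/
abbrev P (i : Idx.{u}) : Over S := (mS G i).P

/-- The universal monomorphism. -/
abbrev uI (i : Idx.{u}) : Red.DS S (Car i) ⊗ P G i ⟶ G := (mS G i).u

/-- The parameters of all monomorphisms. -/
abbrev U : Over S := sigmaO (P G)

/-- The universal subgroup of a given type. -/
def mI (i : Idx.{u}) : Red.DS S (Car i) ⊗ P G i ⟶ G ⊗ P G i :=
  CartesianMonoidalCategory.lift (uI G i) (snd _ _)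

theorem isClosedImmersion_mI (i : Idx.{u}) : IsClosedImmersion (mI G i).left := by
  haveI := isFinite_DS S (Car i)
  have hmono : Mono (mI G i) := ⟨fun {X} a b hab => by
    have h1 : a ≫ uI G i = b ≫ uI G i := by
      simpa [mI] using congrArg (· ≫ fst _ _) hab
    have h2 : a ≫ snd (Red.DS S (Car i)) (P G i) = b ≫ snd _ _ := by
      simpa [mI] using congrArg (· ≫ snd _ _) hab
    apply CartesianMonoidalCategory.hom_ext _ _ ?_ h2
    refine (mS G i).mono X (a ≫ snd _ _) _ _ ?_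
    rw [← comp_lift_assoc, lift_fst_snd, Category.id_comp, h2, ← comp_lift_assoc, lift_fst_snd,
      Category.id_comp]
    exact h1⟩
  haveI : Mono (mI G i).left := inferInstanceAs (Mono ((Over.forget S).map (mI G i)))
  haveI : IsFinite ((mI G i).left ≫ pullback.snd G.hom (P G i).hom) := by
    rw [show (mI G i).left ≫ pullback.snd G.hom (P G i).hom = pullback.snd (Red.DS S (Car i)).hom (P G i).hom from
      congrArg CommaMorphism.left (lift_snd (uI G i) (snd (Red.DS S (Car i)) (P G i)))]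
    exact MorphismProperty.pullback_snd (P := @IsFinite) _ _ inferInstance
  haveI : IsFinite (mI G i).left := IsFinite.of_comp (mI G i).left (pullback.snd G.hom (P G i).hom)
  exact (IsClosedImmersion.iff_isProper_and_mono _).mpr ⟨inferInstance, inferInstance⟩

/-- The universal subgroup over the atlas. -/
def mU : sigmaO (fun i => Red.DS S (Car i) ⊗ P G i) ⟶ G ⊗ U G :=
  descO fun i => mI G i ≫ (G ◁ inclO (P G) i)

instance isClosedImmersion_mU : IsClosedImmersion (mU G).left := by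
  haveI : ∀ i, IsClosedImmersion (mI G i).left := isClosedImmersion_mI G
  let θ : (∐ fun i => (G ⊗ P G i).left) ⟶ (G ⊗ U G).left := Sigma.desc fun i => (G ◁ inclO (P G) i).left
  have sq := fun i => SGA3a.QuotDiag.isPullback_whiskerLeft_snd G (inclO (P G) i)
  haveI : ∀ i, IsOpenImmersion (G ◁ inclO (P G) i).left := fun i =>
    MorphismProperty.of_isPullback (P := @IsOpenImmersion) (sq i) (isOpenImmersion_inclO (P G) i)
  have hsnd : ∀ i w, pullback.snd G.hom (U G).hom ((G ◁ inclO (P G) i).left w) =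
      (inclO (P G) i).left (pullback.snd G.hom (P G i).hom w) := fun i w => by
    rw [← Scheme.Hom.comp_apply, ← Scheme.Hom.comp_apply]
    exact congrArg (fun k : (G ⊗ P G i).left ⟶ (U G).left => k w) (Over.whiskerLeft_left_snd _)
  haveI : IsOpenImmersion θ := isOpenImmersion_sigmaDesc _ _ fun i k hik => by
    rw [Function.onFun, Set.disjoint_left]
    rintro _ ⟨a, rfl⟩ ⟨b, hb⟩
    have h1 := hsnd i a
    rw [← hb, hsnd k b] at h1
    exact hik ((Sigma.mk.inj_iff.1 ((sigmaι_eq_iff _ _ _ _ _).1 h1)).1).symm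
  haveI : Surjective θ := ⟨fun z => by
    obtain ⟨i, x, hx⟩ := exists_inclO_eq (P G) (pullback.snd G.hom (U G).hom z)
    obtain ⟨w, hw⟩ : z ∈ Set.range (G ◁ inclO (P G) i).left := by
      obtain ⟨w, -, hw⟩ := Scheme.Pullback.exists_preimage_pullback x z hx
      refine ⟨(sq i).isoPullback.inv w, ?_⟩
      rw [← Scheme.Hom.comp_apply, (sq i).isoPullback_inv_snd]
      exact hw
    refine ⟨Sigma.ι (fun i => (G ⊗ P G i).left) i w, ?_⟩
    rw [← Scheme.Hom.comp_apply, Sigma.ι_desc, hw]⟩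
  haveI : IsIso θ := (isIso_iff_isOpenImmersion_and_epi_base θ).2 ⟨inferInstance, (TopCat.epi_iff_surjective _).2 θ.surjective⟩
  have e : (mU G).left = Limits.Sigma.map (fun i => (mI G i).left) ≫ θ := by
    refine Sigma.hom_ext _ _ fun i => ?_
    rw [Limits.Sigma.ι_map_assoc, Sigma.ι_desc]
    exact Sigma.ι_desc _ i
  rw [e]
  haveI := Hens22.isClosedImmersion_sigmaMap fun i => (mI G i).left
  infer_instance

instance mono_mU : Mono (mU G) := Over.mono_of_mono_left _

/-- The image of the universal monomorphism. -/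
theorem fac_mU_iff {X : Over S} {i : Idx.{u}} (x : X ⟶ G ⊗ U G) (p : X ⟶ P G i)
    (hp : x ≫ snd G (U G) = p ≫ inclO (P G) i) :
    Fac (mU G) x ↔ ∃ h : X ⟶ Red.DS S (Car i), CartesianMonoidalCategory.lift h p ≫ uI G i = x ≫ fst G (U G) := by
  constructor
  · rintro ⟨q, rfl⟩
    have hr : Set.range q.left ⊆ Set.range (inclO (fun i => Red.DS S (Car i) ⊗ P G i) i).left := by
      rintro _ ⟨z, rfl⟩
      obtain ⟨k, w, hw⟩ := exists_inclO_eq (fun i => Red.DS S (Car i) ⊗ P G i) (q.left z)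
      have h1 : (inclO (fun i => Red.DS S (Car i) ⊗ P G i) k ≫ mU G ≫ snd G (U G)) = snd _ _ ≫ inclO (P G) k := by
        simp [mU, mI]
      have h2 := congrArg (fun f => f.left w) h1
      simp only [Over.comp_left, Scheme.Hom.comp_apply, hw] at h2
      have h3 := congrArg (fun f => f.left z) hp
      simp only [Over.comp_left, Scheme.Hom.comp_apply] at h3
      rw [h2] at h3
      obtain ⟨rfl, -⟩ := Sigma.mk.inj_iff.1 ((sigmaι_eq_iff _ _ _ _ _).1 h3)
      exact ⟨w, hw⟩
    let q' : X ⟶ Red.DS S (Car i) ⊗ P G i :=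
      Over.homMk (IsOpenImmersion.lift (inclO (fun i => Red.DS S (Car i) ⊗ P G i) i).left q.left hr) (by
        rw [← Over.w (inclO (fun i => Red.DS S (Car i) ⊗ P G i) i), ← Category.assoc,
          IsOpenImmersion.lift_fac, Over.w q])
    have hq : q' ≫ inclO (fun i => Red.DS S (Car i) ⊗ P G i) i = q :=
      Over.OverMorphism.ext (IsOpenImmersion.lift_fac _ _ hr)
    rw [← hq] at hp ⊢
    simp only [mU, mI, Category.assoc, inclO_descO_assoc, whiskerLeft_snd, lift_snd_assoc] at hp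
    refine ⟨q' ≫ fst _ _, ?_⟩
    have hq2 : q' ≫ snd _ _ = p := by
      rw [← cancel_mono (inclO (P G) i), Category.assoc, hp]
    rw [← hq2, ← comp_lift, lift_fst_snd, Category.comp_id]
    simp [mU, mI]
  · rintro ⟨h, hh⟩
    refine ⟨CartesianMonoidalCategory.lift h p ≫ inclO (fun i => Red.DS S (Car i) ⊗ P G i) i, ?_⟩
    apply CartesianMonoidalCategory.hom_ext
    · simp [mU, mI, hh]
    · simp [mU, mI, hp]

/-- The image of a restriction of the universal monomorphism. -/
theorem fac_mU_whisker_iff {T X : Over S} {i : Idx.{u}} (x : X ⟶ G ⊗ T) (p : T ⟶ P G i) :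
    Fac (mU G) (x ≫ (G ◁ (p ≫ inclO (P G) i))) ↔ ∃ h : X ⟶ Red.DS S (Car i),
      CartesianMonoidalCategory.lift h (x ≫ snd G T ≫ p) ≫ uI G i = x ≫ fst G T := by
  rw [fac_mU_iff G _ (x ≫ snd G T ≫ p) (by simp)]
  simp

theorem subPts_mU : SubPts (mU G) := by
  have key : ∀ {X : Over S} (f : X ⟶ G ⊗ U G), (∀ z : X.left, ∃ (X' : Over S) (j : X' ⟶ X) (_ : IsOpenImmersion j.left)
      (i : Idx.{u}) (p : X' ⟶ P G i), z ∈ Set.range j.left ∧ j ≫ f ≫ snd _ _ = p ≫ inclO (P G) i ∧
        ∃ h, CartesianMonoidalCategory.lift h p ≫ uI G i = j ≫ f ≫ fst _ _) → Fac (mU G) f := by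
    intro X f hf
    refine Fac.of_local fun z => ?_
    obtain ⟨X', j, hj, i, p, hz, hp, h, hh⟩ := hf z
    exact ⟨X', j, hj, hz, (fac_mU_iff G _ p (by rw [Category.assoc]; exact hp)).2 ⟨h, by rw [Category.assoc]; exact hh⟩⟩
  have hloc : ∀ {X : Over S} (t : X ⟶ U G) (z : X.left), ∃ (X' : Over S) (j : X' ⟶ X) (_ : IsOpenImmersion j.left)
      (i : Idx.{u}) (p : X' ⟶ P G i), z ∈ Set.range j.left ∧ j ≫ t = p ≫ inclO (P G) i := fun t z => by
    obtain ⟨i, hz⟩ := exists_mem_partI t z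
    obtain ⟨p, hp⟩ := exists_partI_lift t (inclO (P G) i)
    exact ⟨_, partI t (inclO (P G) i), inferInstance, i, p, hz, hp.symm⟩
  have hhom := fun i => (mS G i).hom
  refine ⟨fun X t => key _ fun z => ?_, fun X t a b ha hb => key _ fun z => ?_, fun X t a ha => key _ fun z => ?_⟩
  all_goals obtain ⟨X', j, hj, i, p, hz, hp⟩ := hloc t z
  all_goals refine ⟨X', j, hj, i, p, hz, by rw [lift_snd, hp], ?_⟩
  · refine ⟨1, ?_⟩
    have h1 := hhom i X' 1 1 p
    rw [_root_.one_mul, left_eq_mul] at h1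
    rw [lift_fst, MonObj.comp_one]
    exact h1
  · obtain ⟨ha', hha⟩ := (fac_mU_iff G _ p (by rw [Category.assoc, lift_snd, hp])).1 (ha.comp j)
    obtain ⟨hb', hhb⟩ := (fac_mU_iff G _ p (by rw [Category.assoc, lift_snd, hp])).1 (hb.comp j)
    refine ⟨ha' * hb', ?_⟩
    rw [hhom i X' ha' hb' p, hha, hhb]
    simp [MonObj.comp_mul]
  · obtain ⟨ha', hha⟩ := (fac_mU_iff G _ p (by rw [Category.assoc, lift_snd, hp])).1 (ha.comp j)
    refine ⟨ha'⁻¹, ?_⟩
    have h1 := hhom i X' 1 1 p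
    rw [_root_.one_mul, left_eq_mul] at h1
    have h2 := hhom i X' ha'⁻¹ ha' p
    rw [inv_mul_cancel, h1, hha] at h2
    rw [lift_fst, GrpObj.comp_inv, eq_inv_of_mul_eq_one_left h2.symm]
    simp

/-- The automorphisms of the group of a given type. -/
abbrev AutI (i : Idx.{u}) : Type u := ULift.{u} (Car i ≃+ Car i)

instance finite_AutI (i : Idx.{u}) : Finite (AutI i) := by
  haveI : Finite (Car i ≃+ Car i) :=
    Finite.of_injective (fun e => (e : Car i → Car i)) DFunLike.coe_injective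
  infer_instance

/-- The action of an automorphism on the monomorphisms. -/
theorem exists_act {i : Idx.{u}} (e : AutI i) : ∃ a : P G i ⟶ P G i, (Red.DS S (Car i) ◁ a) ≫ uI G i =
    ((Red.DSmap S e.down.toAddMonoidHom) ▷ P G i) ≫ uI G i := by
  refine (mS G i).univ _ _ (fun X g g' t => ?_) fun X t h h' hh => ?_
  · simp only [lift_whiskerRight_assoc, MonObj.mul_comp]
    exact (mS G i).hom X _ _ t
  · simp only [lift_whiskerRight_assoc] at hh
    have := (mS G i).mono X t _ _ hh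
    refine dsFn_injective fun m => ?_
    have h2 := congrArg (fun k => dsFn k (e.down.symm m)) this
    simpa [dsFn_DSmap] using h2

/-- The chosen action. -/
def act {i : Idx.{u}} (e : AutI i) : P G i ⟶ P G i := (exists_act G e).choose

theorem act_spec {i : Idx.{u}} (e : AutI i) {X : Over S} (q : X ⟶ P G i) (h : X ⟶ Red.DS S (Car i)) :
    CartesianMonoidalCategory.lift h (q ≫ act G e) ≫ uI G i =
      CartesianMonoidalCategory.lift (h ≫ Red.DSmap S e.down.toAddMonoidHom) q ≫ uI G i := by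
  have := congrArg (CartesianMonoidalCategory.lift h q ≫ ·) (exists_act G e).choose_spec
  simp only [lift_whiskerLeft_assoc, lift_whiskerRight_assoc] at this
  exact this

/-- The relation of having the same image, of a given type. -/
abbrev RI (i : Idx.{u}) : Over S := sigmaO fun _ : AutI i => P G i

/-- The relation of having the same image. -/
abbrev R : Over S := sigmaO (RI G)

/-- The source. -/
def src : R G ⟶ U G := descO fun i => descO (fun _ : AutI i => 𝟙 (P G i)) ≫ inclO (P G) i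

/-- The target. -/
def tgt : R G ⟶ U G := descO fun i => descO (fun e : AutI i => act G e) ≫ inclO (P G) i

theorem incl_src (i : Idx.{u}) (e : AutI i) :
    inclO (fun _ : AutI i => P G i) e ≫ inclO (RI G) i ≫ src G = inclO (P G) i := by
  simp [src]

theorem incl_tgt (i : Idx.{u}) (e : AutI i) :
    inclO (fun _ : AutI i => P G i) e ≫ inclO (RI G) i ≫ tgt G = act G e ≫ inclO (P G) i := by
  simp [tgt]

theorem exists_local_R {X : Over S} (r : X ⟶ R G) (z : X.left) :
    ∃ (X' : Over S) (j : X' ⟶ X) (_ : IsOpenImmersion j.left) (i : Idx.{u}) (e : AutI i) (q : X' ⟶ P G i),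
      z ∈ Set.range j.left ∧ j ≫ r = q ≫ inclO (fun _ : AutI i => P G i) e ≫ inclO (RI G) i := by
  obtain ⟨i, z', hz⟩ := exists_mem_partI r z
  obtain ⟨r', hr'⟩ := exists_partI_lift r (inclO (RI G) i)
  obtain ⟨e, z'', hz'⟩ := exists_mem_partI r' z'
  obtain ⟨q, hq⟩ := exists_partI_lift r' (inclO (fun _ : AutI i => P G i) e)
  refine ⟨_, partI r' (inclO (fun _ : AutI i => P G i) e) ≫ partI r (inclO (RI G) i),
    inferInstanceAs (IsOpenImmersion ((partI r' _).left ≫ (partI r _).left)), i, e, q, ⟨z'', ?_⟩, ?_⟩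
  · rw [Over.comp_left, Scheme.Hom.comp_apply, hz', hz]
  · rw [Category.assoc, ← hr', ← Category.assoc, ← hq, Category.assoc]

theorem agree_tgt_src : Agree (mU G) (tgt G) (src G) := by
  have key : ∀ (i : Idx.{u}) (e : AutI i),
      Agree (mU G) (act G e ≫ inclO (P G) i) (𝟙 (P G i) ≫ inclO (P G) i) := fun i e X x => by
    rw [fac_mU_whisker_iff, fac_mU_whisker_iff]
    constructor
    · rintro ⟨h, hh⟩
      refine ⟨h ≫ Red.DSmap S e.down.toAddMonoidHom, ?_⟩
      rw [Category.comp_id, ← act_spec G e, Category.assoc, hh]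
    · rintro ⟨h, hh⟩
      refine ⟨h ≫ Red.DSmap S e.down.symm.toAddMonoidHom, ?_⟩
      rw [Category.comp_id] at hh
      rw [← Category.assoc x, act_spec G e, ← hh]
      congr 2
      refine dsFn_injective fun m => ?_
      rw [Category.assoc, ← Category.assoc h, dsFn_DSmap, dsFn_DSmap]
      simp
  intro X x
  have hj : ∀ (z : X.left), ∃ (X' : Over S) (j : X' ⟶ X) (_ : IsOpenImmersion j.left), z ∈ Set.range j.left ∧
      (Fac (mU G) (j ≫ x ≫ (G ◁ tgt G)) ↔ Fac (mU G) (j ≫ x ≫ (G ◁ src G))) := fun z => by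
    obtain ⟨X', j, hj, i, e, q, hz, hq⟩ := exists_local_R G (x ≫ snd G (R G)) z
    refine ⟨X', j, hj, hz, ?_⟩
    have h := key i e X' (CartesianMonoidalCategory.lift (j ≫ x ≫ fst G (R G)) q)
    rw [Category.id_comp] at h
    have e1 : ∀ v : R G ⟶ U G, ∀ w : P G i ⟶ U G,
        inclO (fun _ : AutI i => P G i) e ≫ inclO (RI G) i ≫ v = w →
        j ≫ x ≫ (G ◁ v) = CartesianMonoidalCategory.lift (j ≫ x ≫ fst G (R G)) q ≫ (G ◁ w) := fun v w hvw => by
      rw [lift_whisker x v, comp_lift, lift_whiskerLeft]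
      congr 1
      simp only [← Category.assoc] at hq ⊢
      rw [hq]
      simp only [Category.assoc, hvw]
    rw [e1 _ _ (incl_tgt G i e), e1 _ _ (incl_src G i e)]
    exact h
  exact ⟨fun hf => Fac.of_local fun z => by
    obtain ⟨X', j, hj', hz, hiff⟩ := hj z
    exact ⟨X', j, hj', hz, hiff.1 (hf.comp j)⟩, fun hf => Fac.of_local fun z => by
    obtain ⟨X', j, hj', hz, hiff⟩ := hj z
    exact ⟨X', j, hj', hz, hiff.2 (hf.comp j)⟩⟩

instance mono_pair : Mono (CartesianMonoidalCategory.lift (tgt G) (src G)) := ⟨fun {X} r r' h => by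
  have h1 : r ≫ tgt G = r' ≫ tgt G := by simpa using congrArg (· ≫ fst _ _) h
  have h2 : r ≫ src G = r' ≫ src G := by simpa using congrArg (· ≫ snd _ _) h
  refine hom_ext_local fun z => ?_
  obtain ⟨X₁, j₁, hj₁, i, e, q, ⟨z₁, hz₁⟩, hq⟩ := exists_local_R G r z
  obtain ⟨X₂, j₂, hj₂, i', e', q', ⟨z₂, hz₂⟩, hq'⟩ := exists_local_R G (j₁ ≫ r') z₁
  refine ⟨X₂, j₂ ≫ j₁, inferInstanceAs (IsOpenImmersion (j₂.left ≫ j₁.left)),
    ⟨z₂, by rw [Over.comp_left, Scheme.Hom.comp_apply, hz₂, hz₁]⟩, ?_⟩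
  have hq1 : (j₂ ≫ j₁) ≫ r = (j₂ ≫ q) ≫ inclO (fun _ : AutI i => P G i) e ≫ inclO (RI G) i := by
    rw [Category.assoc, hq, Category.assoc]
  have hq2 : (j₂ ≫ j₁) ≫ r' = q' ≫ inclO (fun _ : AutI i' => P G i') e' ≫ inclO (RI G) i' := by
    rw [Category.assoc, hq']
  have hv : ∀ {v : R G ⟶ U G}, r ≫ v = r' ≫ v →
      (j₂ ≫ q) ≫ inclO (fun _ : AutI i => P G i) e ≫ inclO (RI G) i ≫ v =
        q' ≫ inclO (fun _ : AutI i' => P G i') e' ≫ inclO (RI G) i' ≫ v := fun {v} hr => by
    have h3 := congrArg (fun k => k ≫ v) hq1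
    have h4 := congrArg (fun k => k ≫ v) hq2
    simp only [Category.assoc] at h3 h4 ⊢
    rw [← h3, ← h4, hr]
  have hs : (j₂ ≫ q) ≫ inclO (P G) i = q' ≫ inclO (P G) i' := by
    have h3 := hv h2
    rwa [incl_src, incl_src] at h3
  obtain rfl : i = i' := eq_of_inclO_eq hs z₂
  have hs' : j₂ ≫ q = q' := (cancel_mono (inclO (P G) i)).1 hs
  subst hs'
  have ht : ((j₂ ≫ q) ≫ act G e) ≫ inclO (P G) i = ((j₂ ≫ q) ≫ act G e') ≫ inclO (P G) i := by
    have h3 := hv h1
    rw [incl_tgt, incl_tgt] at h3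
    rwa [Category.assoc _ (act G e), Category.assoc _ (act G e')]
  have ht' := (cancel_mono (inclO (P G) i)).1 ht
  have hee : e = e' := by
    refine ULift.ext _ _ (AddEquiv.ext fun m => ?_)
    obtain ⟨Y, t, hY, -, -, hinj⟩ := exists_point_distinct (T := X₂) (Car i) z₂
    refine hinj ?_
    have := act_spec G e (t ≫ j₂ ≫ q) hY
    rw [show (t ≫ j₂ ≫ q) ≫ act G e = t ≫ (j₂ ≫ q) ≫ act G e by simp, ht',
      show t ≫ (j₂ ≫ q) ≫ act G e' = (t ≫ j₂ ≫ q) ≫ act G e' by simp, act_spec] at this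
    have h3 := congrArg (fun k => dsFn k m) ((mS G i).mono Y (t ≫ j₂ ≫ q) _ _ this)
    simpa [dsFn_DSmap] using h3.symm
  rw [hq1, hq2, hee]⟩

theorem exists_local_U {X : Over S} (t : X ⟶ U G) (z : X.left) :
    ∃ (X' : Over S) (j : X' ⟶ X) (_ : IsOpenImmersion j.left) (z' : X'.left) (i : Idx.{u}) (p : X' ⟶ P G i),
      j.left z' = z ∧ j ≫ t = p ≫ inclO (P G) i := by
  obtain ⟨i, z', hz⟩ := exists_mem_partI t z
  obtain ⟨p, hp⟩ := exists_partI_lift t (inclO (P G) i)
  exact ⟨_, partI t (inclO (P G) i), inferInstance, z', i, p, hz, hp.symm⟩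

theorem agree_iff {X : Over S} (p q : X ⟶ U G) :
    Agree (mU G) p q ↔ Fac (CartesianMonoidalCategory.lift (tgt G) (src G)) (CartesianMonoidalCategory.lift p q) := by
  constructor
  · intro hA
    refine Fac.of_local fun z => ?_
    obtain ⟨X₁, j₁, hj₁, z₁, i, p', hz₁, hp'⟩ := exists_local_U G p z
    obtain ⟨X₂, j₂, hj₂, z₂, k, q', hz₂, hq'⟩ := exists_local_U G (j₁ ≫ q) z₁
    let jj := j₂ ≫ j₁
    have hA' : Agree (mU G) ((j₂ ≫ p') ≫ inclO (P G) i) (q' ≫ inclO (P G) k) := by
      rw [Category.assoc, ← hp', ← hq', ← Category.assoc, ← Category.assoc]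
      exact hA.comp jj
    -- the comparison of the two charts
    have hθ : ∀ {a b : Idx.{u}} (pa : X₂ ⟶ P G a) (pb : X₂ ⟶ P G b),
        Agree (mU G) (pa ≫ inclO (P G) a) (pb ≫ inclO (P G) b) →
        ∃ θ, AutFam.IsHomFamily (Red.DS S (Car a)) (Red.DS S (Car b)) θ ∧
          ∀ (Y : Over S) (t : Y ⟶ X₂) (h : Y ⟶ Red.DS S (Car a)),
            CartesianMonoidalCategory.lift (CartesianMonoidalCategory.lift h t ≫ θ) (t ≫ pb) ≫ uI G b =
              CartesianMonoidalCategory.lift h (t ≫ pa) ≫ uI G a := fun {a b} pa pb hab => by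
      obtain ⟨θ, hθ⟩ := (fac_mU_whisker_iff G (CartesianMonoidalCategory.lift
          (CartesianMonoidalCategory.lift (fst _ _) (snd _ _ ≫ pa) ≫ uI G a) (snd _ _) : Red.DS S (Car a) ⊗ X₂ ⟶ _) pb).1
        ((hab _ _).1 ((fac_mU_whisker_iff G _ pa).2 ⟨fst _ _, by simp⟩))
      have hpt : ∀ (Y : Over S) (t : Y ⟶ X₂) (h : Y ⟶ Red.DS S (Car a)),
          CartesianMonoidalCategory.lift (CartesianMonoidalCategory.lift h t ≫ θ) (t ≫ pb) ≫ uI G b =
            CartesianMonoidalCategory.lift h (t ≫ pa) ≫ uI G a := fun Y t h => by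
        have := congrArg (CartesianMonoidalCategory.lift h t ≫ ·) hθ
        simpa [comp_lift_assoc] using this
      refine ⟨θ, fun Y g g' t => (mS G b).mono Y (t ≫ pb) _ _ ?_, hpt⟩
      rw [hpt, (mS G a).hom, (mS G b).hom, hpt, hpt]
    obtain ⟨θ, hθh, hθp⟩ := hθ (j₂ ≫ p') q' hA'
    obtain ⟨θ', hθh', hθp'⟩ := hθ q' (j₂ ≫ p') hA'.symm
    obtain ⟨D, e, hzD, he⟩ := exists_locally_addEquiv (AddGroup.fg_iff_addMonoid_fg.2 inferInstance)
      (AddGroup.fg_iff_addMonoid_fg.2 inferInstance) θ hθh θ' hθh'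
      (fun Y t h => (mS G i).mono Y (t ≫ j₂ ≫ p') _ _ (by rw [hθp', hθp]))
      (fun Y t h => (mS G k).mono Y (t ≫ q') _ _ (by rw [hθp, hθp'])) z₂
    obtain rfl : k = i := idx_eq_of_addEquiv e
    let j₃ : Over.mk (D.ι ≫ _) ⟶ _ := Over.homMk D.ι rfl
    refine ⟨_, j₃ ≫ jj, inferInstanceAs (IsOpenImmersion (D.ι ≫ j₂.left ≫ j₁.left)),
      ⟨⟨z₂, hzD⟩, ?_⟩, ?_⟩
    · show j₁.left (j₂.left z₂) = z
      rw [hz₂, hz₁]
    refine ⟨(j₃ ≫ q') ≫ inclO (fun _ : AutI k => P G k) (ULift.up e) ≫ inclO (RI G) k, ?_⟩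
    rw [comp_lift, comp_lift]
    have hpq : j₃ ≫ j₂ ≫ p' = (j₃ ≫ q') ≫ act G (ULift.up e) := by
      refine (mS G k).ext ?_
      have e0 : ∀ (Y : Over S) (h : Y ⟶ Red.DS S (Car k)) (t : Y ⟶ Over.mk (D.ι ≫ _)),
          CartesianMonoidalCategory.lift h (t ≫ j₃ ≫ j₂ ≫ p') ≫ uI G k =
            CartesianMonoidalCategory.lift h (t ≫ (j₃ ≫ q') ≫ act G (ULift.up e)) ≫ uI G k := fun Y h t => by
        have h4 := hθp Y (t ≫ j₃) h
        rw [he Y (t ≫ j₃) h (fun y => (t.left y).2)] at h4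
        simp only [← Category.assoc] at h4 ⊢
        rw [← h4, act_spec]
      have := e0 _ (fst _ _) (snd _ _)
      simpa only [← lift_whiskerLeft, lift_fst_snd, Category.id_comp, Category.assoc,
        MonoidalCategory.whiskerLeft_comp] using this
    congr 1
    · rw [Category.assoc, Category.assoc (inclO _ _), incl_tgt, ← Category.assoc, ← hpq]
      simp [jj, hp']
    · rw [Category.assoc, Category.assoc (inclO _ _), incl_src]
      simp [jj, hq']
  · rintro ⟨r, hr⟩
    have h1 : r ≫ tgt G = p := by simpa using congrArg (· ≫ fst _ _) hr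
    have h2 : r ≫ src G = q := by simpa using congrArg (· ≫ snd _ _) hr
    rw [← h1, ← h2]
    exact (agree_tgt_src G).comp r

end Groth.Agent.FMult38
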