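import Groth.Agent.FMult38.MonoLocus
import Groth.Agent.FMult38.Descend
import Groth.Agent.RedPts82.DSImage

/-!
Points of a subgroup of a base change of `G` over varying parameters, and families of monomorphisms
of diagonalisable groups into `G`.
-/

set_option autoImplicit false
set_option backward.isDefEq.respectTransparency.types false
set_option linter.style.haveILetI false
universe u

open CategoryTheory MonoidalCategory CartesianMonoidalCategory MonObj GrpObj AlgebraicGeometry
open CategoryTheory.Limits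

noncomputable section

namespace Groth.Agent.FMult38

open RedPts82

variable {S : Scheme.{u}}

/-- A point over the parameters, as a point of the base change to the parameters. -/
def lp {P X V' : Over S} (t : X ⟶ V') (x : X ⟶ P) : Over.mk t.left ⟶ Red.bc V'.hom P :=
  Over.homMk (pullback.lift x.left t.left ((Over.w x).trans (Over.w t).symm)) (pullback.lift_snd _ _ _)

/-- The change of structure map. -/
def reBase {X V' : Over S} (t : X ⟶ V') : (Over.map V'.hom).obj (Over.mk t.left) ⟶ X :=
  Over.homMk (𝟙 X.left) ((Category.id_comp _).trans (Over.w t).symm)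

theorem toBase_lp {P X V' : Over S} (t : X ⟶ V') (x : X ⟶ P) : toBase V'.hom (lp t x) = reBase t ≫ x :=
  Over.OverMorphism.ext <| by
    rw [toBase_left]
    show pullback.lift _ _ _ ≫ _ = 𝟙 X.left ≫ x.left
    rw [pullback.lift_fst, Category.id_comp]

theorem lp_mul {P X V' : Over S} [GrpObj P] (t : X ⟶ V') (x y : X ⟶ P) : lp t (x * y) = lp t x * lp t y :=
  toBase_injective V'.hom <| by rw [toBase_mul, toBase_lp, toBase_lp, toBase_lp, MonObj.comp_mul]

theorem lp_injective {P X V' : Over S} (t : X ⟶ V') : Function.Injective (lp (P := P) t) := fun x y h =>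
  Over.OverMorphism.ext <| by
    have := congrArg (fun k => k.left ≫ pullback.fst P.hom V'.hom) h
    simp only [lp, Over.homMk_left] at this
    exact (pullback.lift_fst _ _ _).symm.trans (this.trans (pullback.lift_fst _ _ _))

theorem exists_lp {P X V' : Over S} (t : X ⟶ V') (y : Over.mk t.left ⟶ Red.bc V'.hom P) :
    ∃ x : X ⟶ P, lp t x = y := by
  refine ⟨Over.homMk (y.left ≫ pullback.fst P.hom V'.hom) ?_, Over.OverMorphism.ext (pullback.hom_ext ?_ ?_)⟩
  · show (y.left ≫ pullback.fst P.hom V'.hom) ≫ P.hom = X.hom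
    rw [Category.assoc, pullback.condition, ← Over.w t]
    exact ((Category.assoc _ _ _).symm.trans (congrArg (· ≫ V'.hom) (Over.w y)))
  · exact pullback.lift_fst _ _ _
  · show pullback.lift _ _ _ ≫ pullback.snd P.hom V'.hom = y.left ≫ pullback.snd P.hom V'.hom
    rw [pullback.lift_snd]
    exact (Over.w y).symm

theorem lp_left {P X V' : Over S} (t : X ⟶ V') (x : X ⟶ P) :
    (lp t x).left = (CartesianMonoidalCategory.lift x t).left := by
  refine pullback.hom_ext ?_ ?_
  · show pullback.lift _ _ _ ≫ _ = _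
    rw [pullback.lift_fst]
    exact (congrArg CommaMorphism.left (lift_fst x t)).symm
  · show pullback.lift _ _ _ ≫ _ = _
    rw [pullback.lift_snd]
    exact (congrArg CommaMorphism.left (lift_snd x t)).symm

variable {G : Over S} {T : Scheme.{u}} (f : T ⟶ S) {K : Over T} (j : K ⟶ Red.bc f G)
  {V' : Over S} (c : V' ⟶ Over.mk f)

/-- The element of `G` underlying a point of the subgroup over the parameters. -/
def val {X : Over S} (t : X ⟶ V') (b : Over.mk t.left ⟶ Red.bc c.left K) : X ⟶ G :=
  Over.homMk (b.left ≫ pullback.fst K.hom c.left ≫ j.left ≫ pullback.fst G.hom f) (by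
    simp only [Category.assoc]
    rw [pullback.condition]
    rw [show j.left ≫ pullback.snd G.hom f ≫ f = K.hom ≫ f from
      ((Category.assoc _ _ _).symm.trans (congrArg (· ≫ f) (Over.w j)))]
    rw [pullback.condition_assoc]
    rw [show c.left ≫ f = V'.hom from Over.w c]
    rw [← Over.w t]
    exact ((Category.assoc _ _ _).symm.trans (congrArg (· ≫ V'.hom) (Over.w b))))

/-- The change of structure map, twice. -/
def reBase₂ {X : Over S} (t : X ⟶ V') : X ⟶ (Over.map f).obj ((Over.map c.left).obj (Over.mk t.left)) :=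
  Over.homMk (𝟙 X.left) (by
    show 𝟙 X.left ≫ (t.left ≫ c.left) ≫ f = X.hom
    rw [Category.id_comp, Category.assoc, show c.left ≫ f = V'.hom from Over.w c, Over.w t])

theorem val_eq {X : Over S} (t : X ⟶ V') (b : Over.mk t.left ⟶ Red.bc c.left K) :
    val f j c t b = reBase₂ f c t ≫ toBase f (toBase c.left b ≫ j) :=
  Over.OverMorphism.ext <| by
    show _ = 𝟙 X.left ≫ (toBase f (toBase c.left b ≫ j)).left
    rw [Category.id_comp, toBase_left, Over.comp_left, toBase_left]
    simp only [Category.assoc]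
    rfl

theorem val_mul [GrpObj G] [GrpObj K] [IsMonHom j] {X : Over S} (t : X ⟶ V')
    (b b' : Over.mk t.left ⟶ Red.bc c.left K) : val f j c t (b * b') = val f j c t b * val f j c t b' := by
  rw [val_eq, val_eq, val_eq, toBase_mul c.left b b', MonObj.mul_comp, toBase_mul, MonObj.comp_mul]

theorem val_injective [Mono j.left] {X : Over S} (t : X ⟶ V') :
    Function.Injective (val f j c t) := fun b b' h => by
  refine Over.OverMorphism.ext (pullback.hom_ext ?_ ((Over.w b).trans (Over.w b').symm))
  rw [← cancel_mono j.left]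
  refine pullback.hom_ext ?_ ?_
  · simpa [val] using congrArg CommaMorphism.left h
  · simp only [Category.assoc]
    rw [show j.left ≫ pullback.snd G.hom f = K.hom from Over.w j, pullback.condition]
    exact ((Category.assoc _ _ _).symm.trans (congrArg (· ≫ c.left) (Over.w b))).trans
      ((Category.assoc _ _ _).symm.trans (congrArg (· ≫ c.left) (Over.w b'))).symm

theorem mem_iff_val {X : Over S} (x : X ⟶ G ⊗ V') :
    (∃ q : X.left ⟶ K.left, q ≫ j.left = (x ≫ (G ◁ c)).left) ↔
      ∃ b, val f j c (x ≫ snd G V') b = x ≫ fst G V' := by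
  have hw1 : (x ≫ (G ◁ c)).left ≫ pullback.fst G.hom f = (x ≫ fst G V').left := by
    rw [Over.comp_left, Category.assoc]
    exact congrArg (x.left ≫ ·) (Over.whiskerLeft_left_fst c)
  have hw2 : (x ≫ (G ◁ c)).left ≫ pullback.snd G.hom f = (x ≫ snd G V').left ≫ c.left := by
    rw [Over.comp_left, Category.assoc]
    exact (congrArg (x.left ≫ ·) (Over.whiskerLeft_left_snd c)).trans (Category.assoc _ _ _).symm
  constructor
  · rintro ⟨q, hq⟩
    refine ⟨Over.homMk (pullback.lift q (x ≫ snd G V').left ?_) (pullback.lift_snd _ _ _), ?_⟩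
    · rw [← hw2, ← hq, Category.assoc]
      exact congrArg (q ≫ ·) (Over.w j).symm
    · refine Over.OverMorphism.ext ?_
      simp only [val, Over.homMk_left, pullback.lift_fst_assoc]
      rw [← hw1, ← Category.assoc, hq]
  · rintro ⟨b, hb⟩
    refine ⟨b.left ≫ pullback.fst K.hom c.left, pullback.hom_ext ?_ ?_⟩
    · rw [hw1, ← hb]
      simp [val]
    · rw [hw2, Category.assoc, Category.assoc, show j.left ≫ pullback.snd G.hom f = K.hom from Over.w j,
        pullback.condition]
      exact ((Category.assoc _ _ _).symm.trans (congrArg (· ≫ c.left) (Over.w b)))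

variable {A : Type} [AddCommGroup A] [GrpObj G] [GrpObj K] [IsMonHom j] [Mono j.left]

/-- The family of monomorphisms given by a chart of a subgroup. -/
theorem exists_family (σ : Red.bc V'.hom (Red.DS S A) ≅ Red.bc c.left K) [IsMonHom σ.hom] :
    ∃ φ : Red.DS S A ⊗ V' ⟶ G, AutFam.IsHomFamily (Red.DS S A) G φ ∧ MonoFam φ ∧
      ∀ (X : Over S) (x : X ⟶ G ⊗ V'), (∃ q : X.left ⟶ K.left, q ≫ j.left = (x ≫ (G ◁ c)).left) ↔
        ∃ h : X ⟶ Red.DS S A, CartesianMonoidalCategory.lift h (x ≫ snd G V') ≫ φ = x ≫ fst G V' := by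
  let φ : Red.DS S A ⊗ V' ⟶ G := val f j c (snd (Red.DS S A) V') (lp (snd _ _) (fst _ _) ≫ σ.hom)
  have key : ∀ {X : Over S} (t : X ⟶ V') (h : X ⟶ Red.DS S A),
      CartesianMonoidalCategory.lift h t ≫ φ = val f j c t (lp t h ≫ σ.hom) := fun {X} t h => by
    refine Over.OverMorphism.ext ?_
    simp only [φ, val, Over.comp_left, Over.homMk_left, lp_left, lift_fst_snd, Over.id_left,
      Category.id_comp, Category.assoc]
  refine ⟨φ, fun X g g' t => ?_, fun X t h h' hh => ?_, fun X x => ?_⟩
  · rw [key, key, key, lp_mul, MonObj.mul_comp, val_mul]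
  · rw [key, key] at hh
    exact lp_injective t ((cancel_mono σ.hom).1 (val_injective f j c t hh))
  · rw [mem_iff_val]
    constructor
    · rintro ⟨b, hb⟩
      obtain ⟨h, hh⟩ := exists_lp _ (b ≫ σ.inv)
      exact ⟨h, by rw [key, hh, Category.assoc, σ.inv_hom_id, Category.comp_id, hb]⟩
    · rintro ⟨h, hh⟩
      exact ⟨_, (key _ _).symm.trans hh⟩

/-- The chart of a subgroup given by a family of monomorphisms. -/
theorem exists_chart_iso (φ : Red.DS S A ⊗ V' ⟶ G) (hφ : AutFam.IsHomFamily (Red.DS S A) G φ) (hm : MonoFam φ)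
    (hmem : ∀ (X : Over S) (x : X ⟶ G ⊗ V'), (∃ q : X.left ⟶ K.left, q ≫ j.left = (x ≫ (G ◁ c)).left) ↔
        ∃ h : X ⟶ Red.DS S A, CartesianMonoidalCategory.lift h (x ≫ snd G V') ≫ φ = x ≫ fst G V') :
    ∃ σ : Red.bc V'.hom (Red.DS S A) ≅ Red.bc c.left K, IsMonHom σ.hom := by
  obtain ⟨b₀, hb₀⟩ := (mem_iff_val f j c (CartesianMonoidalCategory.lift φ (snd (Red.DS S A) V'))).1
    ((hmem _ _).2 ⟨fst _ _, by rw [lift_snd, lift_fst, lift_fst_snd, Category.id_comp]⟩)
  rw [lift_fst] at hb₀
  let s : Red.bc V'.hom (Red.DS S A) ⟶ Red.bc c.left K := Over.homMk b₀.left (by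
    refine (Over.w b₀).trans ?_
    exact congrArg CommaMorphism.left (lift_snd φ (snd (Red.DS S A) V')))
  have key : ∀ {X : Over S} (t : X ⟶ V') (h : X ⟶ Red.DS S A),
      val f j c t (lp t h ≫ s) = CartesianMonoidalCategory.lift h t ≫ φ := fun {X} t h => by
    refine Over.OverMorphism.ext ?_
    rw [← hb₀]
    simp only [val, s, Over.comp_left, Over.homMk_left, lp_left, Category.assoc]
  have hpts : ∀ (Y : Over V'.left), ∃ (X : Over S) (t : X ⟶ V'), Over.mk t.left = Y := fun Y =>
    ⟨Over.mk (Y.hom ≫ V'.hom), Over.homMk Y.hom rfl, rfl⟩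
  haveI : IsMonHom s := isMonHom_of_points s fun Y a b => by
    obtain ⟨X, t, rfl⟩ := hpts Y
    obtain ⟨ha, rfl⟩ := exists_lp t a
    obtain ⟨hb, rfl⟩ := exists_lp t b
    apply val_injective f j c t
    rw [← lp_mul, val_mul, key, key, key, hφ]
  obtain ⟨r, hr⟩ : ∃ r, r ≫ s = 𝟙 (Red.bc c.left K) := by
    let X : Over S := Over.mk ((Red.bc c.left K).hom ≫ V'.hom)
    let t : X ⟶ V' := Over.homMk (Red.bc c.left K).hom rfl
    obtain ⟨h, hh⟩ := (hmem X (CartesianMonoidalCategory.lift (val f j c t (𝟙 (Red.bc c.left K))) t)).1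
      ((mem_iff_val f j c _).2 ⟨Over.homMk (𝟙 _) (by
        rw [lift_snd]
        exact Category.id_comp _), by
        rw [lift_fst]
        exact Over.OverMorphism.ext (by simp only [val, Over.homMk_left]; exact Category.id_comp _)⟩)
    rw [lift_fst, lift_snd, ← key] at hh
    exact ⟨lp t h, val_injective f j c t hh⟩
  haveI : Mono s := ⟨fun {Y} a b hab => by
    obtain ⟨X, t, rfl⟩ := hpts Y
    obtain ⟨ha, rfl⟩ := exists_lp t a
    obtain ⟨hb, rfl⟩ := exists_lp t b
    have h2 := congrArg (val f j c t) hab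
    rw [key, key] at h2
    rw [hm X t _ _ h2]⟩
  have hsr : s ≫ r = 𝟙 _ := by rw [← cancel_mono s, Category.assoc, hr, Category.comp_id, Category.id_comp]
  exact ⟨⟨s, r, hsr, hr⟩, (inferInstance : IsMonHom s)⟩

end Groth.Agent.FMult38
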