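import Groth.Agent.FMult38.Atlas
import Groth.Agent.FMult38.Translate
import Groth.Agent.RedPts82.HomExtendMult
import Groth.Agent.RedPts82.ImageLoc

/-!
Every finite subgroup of multiplicative type is classified by the atlas, locally for a covering.
-/

set_option autoImplicit false
set_option backward.isDefEq.respectTransparency.types false
set_option linter.style.haveILetI false
universe u

open CategoryTheory MonoidalCategory CartesianMonoidalCategory MonObj GrpObj AlgebraicGeometry
open CategoryTheory.Limits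

noncomputable section

namespace Groth.Agent.FMult38

open RedPts82 SGA3a.QuotCover

variable {S : Scheme.{u}}

theorem fac_left_iff {Z X Y : Over S} (m : Z ⟶ Y) (y : X ⟶ Y) :
    Fac m y ↔ ∃ q : X.left ⟶ Z.left, q ≫ m.left = y.left := by
  refine ⟨fun ⟨p, hp⟩ => ⟨p.left, congrArg CommaMorphism.left hp⟩, fun ⟨q, hq⟩ => ?_⟩
  refine ⟨Over.homMk q ?_, Over.OverMorphism.ext hq⟩
  show q ≫ Z.hom = X.hom
  rw [← Over.w m, ← Category.assoc, hq, Over.w y]

/-- The isomorphism of diagonalisable groups given by an isomorphism of characters. -/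
theorem exists_dsIso (S : Scheme.{u}) {A B : Type} [AddCommGroup A] [AddCommGroup B] (e : A ≃+ B) :
    ∃ i : Red.DS S B ≅ Red.DS S A, IsMonHom i.hom := by
  refine ⟨⟨Red.DSmap S e.toAddMonoidHom, Red.DSmap S e.symm.toAddMonoidHom, ?_, ?_⟩, ?_⟩
  · refine dsFn_injective fun m => ?_
    rw [← Category.id_comp (Red.DSmap S e.toAddMonoidHom), Category.assoc, Category.id_comp,
      dsFn_DSmap, ← Category.id_comp (Red.DSmap S e.toAddMonoidHom), dsFn_DSmap]
    simp
  · refine dsFn_injective fun m => ?_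
    rw [← Category.id_comp (Red.DSmap S e.symm.toAddMonoidHom), Category.assoc, Category.id_comp,
      dsFn_DSmap, ← Category.id_comp (Red.DSmap S e.symm.toAddMonoidHom), dsFn_DSmap]
    simp
  · exact isMonHom_of_points (Red.DSmap S e.toAddMonoidHom) fun Z a b => dsFn_injective fun m => by simp only [dsFn_mul, dsFn_DSmap]

/-- A diagonalisable group finite over a nonempty base has a finite group of characters. -/
theorem finite_of_isFinite {V : Scheme.{u}} {A : Type} [AddCommGroup A] (v : V)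
    (h : IsFinite (Red.DS V A).hom) : Finite A := by
  let κ := V.residueField v
  obtain ⟨a, -, ha, -⟩ := exists_ds_bc (V.fromSpecResidueField v) A
  haveI : IsIso a.left := inferInstanceAs (IsIso ((Over.forget _).map a))
  have h1 : IsFinite (Red.DS (Spec κ) A).hom := by
    rw [← Over.w a]
    haveI : IsFinite (Red.bc (V.fromSpecResidueField v) (Red.DS V A)).hom :=
      MorphismProperty.pullback_snd (P := @IsFinite) _ _ h
    exact inferInstanceAs (IsFinite (a.left ≫ (Red.bc (V.fromSpecResidueField v) (Red.DS V A)).hom))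
  obtain ⟨ψ, _⟩ := Hopf.exists_coord_DS κ A
  haveI : IsIso ψ.hom.left := inferInstanceAs (IsIso ((Over.forget _).map ψ.hom))
  have h2 : IsFinite (Spec.map (CommRingCat.ofHom (algebraMap κ (MonoidAlgebra κ (Multiplicative A))))) := by
    rw [show Spec.map (CommRingCat.ofHom (algebraMap κ (MonoidAlgebra κ (Multiplicative A)))) =
      ψ.hom.left ≫ (Red.DS (Spec κ) A).hom from (Over.w ψ.hom).symm]
    haveI := h1
    exact inferInstanceAs (IsFinite (ψ.hom.left ≫ (Red.DS (Spec κ) A).hom))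
  rw [IsFinite.SpecMap_iff, CommRingCat.hom_ofHom, RingHom.finite_algebraMap] at h2
  haveI := h2
  haveI : Finite (Multiplicative A) :=
    Module.Finite.finite_basis (MonoidAlgebra.basis (Multiplicative A) κ)
  exact Finite.of_equiv (Multiplicative A) Multiplicative.toAdd

variable (G : Over S) [GrpObj G] [IsAffineHom G.hom] [LocallyOfFinitePresentation G.hom]

theorem exists_chart_at {T : Scheme.{u}} (f : T ⟶ S) {K' : Over T} [GrpObj K'] (j' : K' ⟶ Red.bc f G)
    [IsMonHom j'] [Mono j'.left] (hK : SGA3x.IsMultTypeFT K') (hfin : IsFinite K'.hom) (s : T) :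
    ∃ (V' : Over S) (c : V' ⟶ Over.mk f) (i : Idx.{u}) (p : V' ⟶ P G i), Etale c.left ∧
      s ∈ Set.range c.left ∧ ∀ (X : Over S) (x : X ⟶ G ⊗ V'),
        Fac (ofSub f j') (x ≫ (G ◁ c)) ↔ Fac (mU G) (x ≫ (G ◁ (p ≫ inclO (P G) i))) := by
  obtain ⟨V, h, v, A, _, -, het, hv, ⟨E⟩⟩ := HomExt.exists_etale_split_fg hK s
  let ψ : Red.bc h K' ≅ Red.DS V A := (Grp.forget _).mapIso E
  haveI : IsMonHom ψ.inv := show IsMonHom E.inv.hom.hom from E.inv.hom.isMonHom_hom
  haveI : IsFinite (Red.bc h K').hom := MorphismProperty.pullback_snd (P := @IsFinite) _ _ hfin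
  haveI : Finite A := finite_of_isFinite v (by
    haveI : IsIso ψ.inv.left := inferInstanceAs (IsIso ((Over.forget _).map ψ.inv))
    rw [← Over.w ψ.inv]
    exact inferInstanceAs (IsFinite (ψ.inv.left ≫ (Red.bc h K').hom)))
  obtain ⟨i, ⟨e⟩⟩ := exists_idx.{u} A
  obtain ⟨d, _⟩ := exists_dsIso V e
  let V' : Over S := Over.mk (h ≫ f)
  let c : V' ⟶ Over.mk f := Over.homMk h rfl
  obtain ⟨a, _, _, -⟩ := exists_ds_bc (S := S) V'.hom (Car i)
  haveI : IsMonHom (asIso a).inv := inferInstance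
  let σ : Red.bc V'.hom (Red.DS S (Car i)) ≅ Red.bc c.left K' := (asIso a).symm ≪≫ d ≪≫ ψ.symm
  haveI : IsMonHom σ.hom := inferInstanceAs (IsMonHom ((asIso a).inv ≫ d.hom ≫ ψ.inv))
  obtain ⟨φ, hφ, hm, hmem⟩ := exists_family f j' c σ
  obtain ⟨p, hp⟩ := (mS G i).univ V' φ hφ hm
  refine ⟨V', c, i, p, het, ⟨v, hv⟩, fun X x => ?_⟩
  rw [fac_left_iff, fac_mU_whisker_iff]
  refine (hmem X x).trans (exists_congr fun g => ?_)
  rw [← hp, lift_whiskerLeft_assoc, Category.assoc]

/-- A finite subgroup of multiplicative type is given by the atlas after a covering. -/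
theorem exists_atlas_cov {T : Scheme.{u}} (f : T ⟶ S) {K' : Over T} [GrpObj K'] (j' : K' ⟶ Red.bc f G)
    [IsMonHom j'] [Mono j'.left] (hK : SGA3x.IsMultTypeFT K') (hfin : IsFinite K'.hom) :
    ∃ (T' : Over S) (c : T' ⟶ Over.mk f) (p : T' ⟶ U G), IsCov c.left ∧
      ∀ (X : Over S) (x : X ⟶ G ⊗ T'), Fac (ofSub f j') (x ≫ (G ◁ c)) ↔ Fac (mU G) (x ≫ (G ◁ p)) := by
  choose V' c i p het hs hmem using exists_chart_at G f j' hK hfin
  haveI := het
  haveI : Mono (ofSub f j') := by
    haveI : Mono (ofSub f j').left := inferInstanceAs (Mono j'.left)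
    exact Over.mono_of_mono_left _
  refine ⟨sigmaO V', descO c, descO fun s => p s ≫ inclO (P G) (i s), isCov_descO c fun y => ⟨y, hs y⟩, fun X x => ?_⟩
  have hj : ∀ (z : X.left), ∃ (X' : Over S) (j : X' ⟶ X) (_ : IsOpenImmersion j.left), z ∈ Set.range j.left ∧
      (Fac (ofSub f j') (j ≫ x ≫ (G ◁ descO c)) ↔
        Fac (mU G) (j ≫ x ≫ (G ◁ descO fun s => p s ≫ inclO (P G) (i s)))) := fun z => by
    obtain ⟨s, hz⟩ := exists_mem_partI (x ≫ snd G (sigmaO V')) z
    obtain ⟨q, hq⟩ := exists_partI_lift (x ≫ snd G (sigmaO V')) (inclO V' s)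
    let jz := partI (x ≫ snd G (sigmaO V')) (inclO V' s)
    refine ⟨_, jz, inferInstance, hz, ?_⟩
    have e : jz ≫ x = CartesianMonoidalCategory.lift (jz ≫ x ≫ fst _ _) q ≫ (G ◁ inclO V' s) := by
      apply CartesianMonoidalCategory.hom_ext
      · simp
      · simp [jz]
        exact hq.symm
    rw [← Category.assoc, ← Category.assoc, e, Category.assoc, Category.assoc, ← MonoidalCategory.whiskerLeft_comp,
      ← MonoidalCategory.whiskerLeft_comp, inclO_descO, inclO_descO]
    exact hmem s _ _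
  exact ⟨fun hf => Fac.of_local fun z => by
    obtain ⟨X', j, hj', hz, hiff⟩ := hj z
    exact ⟨X', j, hj', hz, hiff.1 (hf.comp j)⟩, fun hf => Fac.of_local fun z => by
    obtain ⟨X', j, hj', hz, hiff⟩ := hj z
    exact ⟨X', j, hj', hz, hiff.2 (hf.comp j)⟩⟩

end Groth.Agent.FMult38
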