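import Groth.Agent.RedPts82.DSHomLoc
import Groth.Agent.RedPts82.DSImage
import Groth.Agent.RedPts82.Transporter
import Groth.Prelude.Def_AutFam

/-!
Points of diagonalisable groups over parameters, and the local form of families of homomorphisms
between them.
-/

set_option autoImplicit false
set_option backward.isDefEq.respectTransparency.types false
set_option linter.style.haveILetI false
universe u

open CategoryTheory MonoidalCategory CartesianMonoidalCategory MonObj GrpObj AlgebraicGeometry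
open CategoryTheory.Limits

noncomputable section

namespace Groth.Agent.FMult38

open RedPts82

variable {S : Scheme.{u}}

/-- The diagonalisable group of a finite group is finite. -/
theorem isFinite_DS (S : Scheme.{u}) (A : Type) [AddCommGroup A] [Finite A] : IsFinite (Red.DS S A).hom := by
  refine MorphismProperty.pullback_snd (P := @IsFinite) _ _ ?_
  refine (IsFinite.SpecMap_iff (f := CommRingCat.ofHom (algebraMap ZU.{u} (MonoidAlgebra ZU.{u} (Multiplicative A))))).mpr ?_
  exact RingHom.finite_algebraMap.mpr (Module.Finite.of_basis (MonoidAlgebra.basis (Multiplicative A) ZU.{u}))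

/-- The diagonalisable group of a finite group is of finite presentation. -/
theorem lfp_DS (S : Scheme.{u}) (A : Type) [AddCommGroup A] [Finite A] :
    LocallyOfFinitePresentation (Red.DS S A).hom :=
  lfp_DS_of_fg S A (AddGroup.fg_iff_addMonoid_fg.2 inferInstance)

/-- Over every point there is a point of `D(A)` on which the characters are pairwise distinct. -/
theorem exists_point_distinct {T : Over S} (A : Type) [AddCommGroup A] (w : T.left) :
    ∃ (X : Over S) (t : X ⟶ T) (h : X ⟶ Red.DS S A), (∀ x, t.left x = w) ∧ Nonempty X.left ∧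
      Function.Injective (dsFn h) := by
  let κ := T.left.residueField w
  let R := MonoidAlgebra κ (Multiplicative A)
  let c : Spec (CommRingCat.of R) ⟶ T.left :=
    Spec.map (CommRingCat.ofHom (algebraMap κ R)) ≫ T.left.fromSpecResidueField w
  let X : Over S := Over.mk (c ≫ T.hom)
  let ρ : R →+* Γ(X.left, ⊤) := (Scheme.ΓSpecIso (CommRingCat.of R)).inv.hom
  obtain ⟨h, hh⟩ := dsFn_surjective (S := S) (X := X) (M := A)
    ((ρ : R →* Γ(X.left, ⊤)).comp (MonoidAlgebra.of κ (Multiplicative A)))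
  refine ⟨X, Over.homMk c rfl, h, fun x => Scheme.fromSpecResidueField_apply w _, ?_, fun a b hab => ?_⟩
  · haveI : Nontrivial R := inferInstance
    exact inferInstanceAs (Nonempty (PrimeSpectrum R))
  · rw [hh, hh] at hab
    have hρ : Function.Injective ρ := (Scheme.ΓSpecIso (CommRingCat.of R)).symm.commRingCatIsoToRingEquiv.injective
    exact Multiplicative.ofAdd.injective (MonoidAlgebra.of_injective (hρ hab))

variable {A B : Type} [AddCommGroup A] [AddCommGroup B] {T : Over S}

/-- Families of homomorphisms of diagonalisable groups are locally given by maps of characters. -/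
theorem exists_locally_map (hB : AddGroup.FG B) (θ : Red.DS S A ⊗ T ⟶ Red.DS S B)
    (hθ : AutFam.IsHomFamily (Red.DS S A) (Red.DS S B) θ) (w : T.left) :
    ∃ (D : T.left.Opens) (φ : B →+ A), w ∈ D ∧ ∀ (X : Over S) (t : X ⟶ T) (h : X ⟶ Red.DS S A),
      (∀ x, t.left x ∈ D) → CartesianMonoidalCategory.lift h t ≫ θ = h ≫ Red.DSmap S φ := by
  obtain ⟨V, hV, hwV, -⟩ := exists_isAffineOpen_mem_and_subset (x := w) (U := (⊤ : T.left.Opens)) trivial
  let W : Scheme.{u} := V
  haveI : IsAffine W := hV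
  let XW : Over S := Over.mk ((Red.DS W A).hom ≫ V.ι ≫ T.hom)
  let tW : XW ⟶ T := Over.homMk ((Red.DS W A).hom ≫ V.ι) (Category.assoc _ _ _)
  obtain ⟨hW, hhW⟩ := dsFn_surjective (S := S) (X := XW) (M := A)
    { toFun := fun m => dsFn (S := W) (X := Red.DS W A) (𝟙 (Red.DS W A)) (Multiplicative.toAdd m)
      map_one' := dsFn_zero _
      map_mul' := fun a b => dsFn_add _ _ _ }
  obtain ⟨q, hq⟩ := dsFn_surjective (S := W) (X := Red.DS W A) (M := B)
    { toFun := fun m => dsFn (S := S) (X := XW) (CartesianMonoidalCategory.lift hW tW ≫ θ) (Multiplicative.toAdd m)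
      map_one' := dsFn_zero _
      map_mul' := fun a b => dsFn_add _ _ _ }
  let res : ∀ {Y : Over W}, (Y ⟶ Red.DS W A) → (Over.mk (Y.hom ≫ V.ι ≫ T.hom) ⟶ XW) := fun {Y} t =>
    Over.homMk t.left (by
      show t.left ≫ (Red.DS W A).hom ≫ V.ι ≫ T.hom = Y.hom ≫ V.ι ≫ T.hom
      rw [← Category.assoc, Over.w t])
  have hres : ∀ {Y : Over W} (t : Y ⟶ Red.DS W A) (b : B), dsFn (t ≫ q) b =
      dsFn (S := S) (CartesianMonoidalCategory.lift (res t ≫ hW) (res t ≫ tW) ≫ θ) b := fun {Y} t b => by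
    rw [← comp_lift_assoc, dsFn_comp, dsFn_comp, hq]
    rfl
  have hresA : ∀ {Y : Over W} (t : Y ⟶ Red.DS W A) (a : A), dsFn (S := S) (res t ≫ hW) a = dsFn t a := fun {Y} t a => by
    have e := dsFn_comp t (𝟙 (Red.DS W A)) a
    rw [Category.comp_id] at e
    rw [dsFn_comp, hhW, e]
    rfl
  have hrest : ∀ {Y : Over W} (t : Y ⟶ Red.DS W A), (res t ≫ tW).left = Y.hom ≫ V.ι := fun {Y} t => by
    show t.left ≫ (Red.DS W A).hom ≫ V.ι = _
    rw [← Category.assoc, Over.w t]
  haveI : IsMonHom q := isMonHom_of_points _ fun Y t t' => dsFn_injective fun b => by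
    have e1 : res (t * t') ≫ hW = (show Over.mk (Y.hom ≫ V.ι ≫ T.hom) ⟶ Red.DS S A from res t ≫ hW) *
        (res t' ≫ hW) :=
      dsFn_injective fun a => by rw [hresA, dsFn_mul, dsFn_mul, hresA, hresA]
    have e2 : res (t * t') ≫ tW = res t ≫ tW := Over.OverMorphism.ext ((hrest _).trans (hrest t).symm)
    have e3 : res t' ≫ tW = res t ≫ tW := Over.OverMorphism.ext ((hrest _).trans (hrest t).symm)
    rw [dsFn_mul, hres, hres, hres, e1, e2, e3, hθ _ _ _ _, dsFn_mul]
  obtain ⟨D, φ, hwD, hD⟩ := exists_ds_hom_loc hB q ⟨w, hwV⟩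
  refine ⟨V.ι ''ᵁ D, φ, ⟨⟨w, hwV⟩, hwD, rfl⟩, fun X t h ht => ?_⟩
  have hrange : Set.range t.left ⊆ Set.range V.ι := by
    rintro _ ⟨x, rfl⟩
    obtain ⟨v, -, hv⟩ := ht x
    exact ⟨v, hv⟩
  let z : X.left ⟶ W := IsOpenImmersion.lift V.ι t.left hrange
  have hz : z ≫ V.ι = t.left := IsOpenImmersion.lift_fac _ _ _
  let Y : Over W := Over.mk z
  obtain ⟨tY, htY⟩ := dsFn_surjective (S := W) (X := Y) (M := A)
    { toFun := fun m => (dsFn (S := S) (X := X) h (Multiplicative.toAdd m) : Γ(X.left, ⊤))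
      map_one' := dsFn_zero _
      map_mul' := fun a b => dsFn_add _ _ _ }
  have hX : ∀ x : Y.left, Y.hom x ∈ D := fun x => by
    obtain ⟨v, hv, e⟩ := ht x
    have : z x = v := V.ι.isOpenEmbedding.injective (by
      rw [← Scheme.Hom.comp_apply, hz]; exact e.symm)
    exact this ▸ hv
  let α : Over.mk (Y.hom ≫ V.ι ≫ T.hom) ⟶ X := Over.homMk (𝟙 X.left) (by
    show 𝟙 _ ≫ X.hom = z ≫ V.ι ≫ T.hom
    rw [Category.id_comp, reassoc_of% hz, Over.w t])
  have hα : IsIso α := by
    haveI : IsIso ((Over.forget S).map α) := inferInstanceAs (IsIso (𝟙 X.left))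
    exact isIso_of_reflects_iso α (Over.forget S)
  have e1 : res tY ≫ hW = α ≫ h := dsFn_injective fun a => by
    rw [hresA, htY, dsFn_comp]
    show dsFn h a = (𝟙 X.left : X.left ⟶ X.left).appTop _
    simp
  have e2 : res tY ≫ tW = α ≫ t := Over.OverMorphism.ext ((hrest _).trans (by
    show z ≫ V.ι = 𝟙 _ ≫ t.left
    rw [hz, Category.id_comp]))
  rw [← cancel_epi α, comp_lift_assoc, ← e1, ← e2]
  refine dsFn_injective fun b => ?_
  rw [← hres, hD Y hX tY, dsFn_DSmap, htY, dsFn_comp, dsFn_DSmap]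
  show dsFn h (φ b) = (𝟙 X.left : X.left ⟶ X.left).appTop _
  simp

/-- Mutually inverse families of homomorphisms of diagonalisable groups are locally given by
isomorphisms of the character groups. -/
theorem exists_locally_addEquiv (hA : AddGroup.FG A) (hB : AddGroup.FG B)
    (θ : Red.DS S A ⊗ T ⟶ Red.DS S B) (hθ : AutFam.IsHomFamily (Red.DS S A) (Red.DS S B) θ)
    (θ' : Red.DS S B ⊗ T ⟶ Red.DS S A) (hθ' : AutFam.IsHomFamily (Red.DS S B) (Red.DS S A) θ')
    (h₁ : ∀ (X : Over S) (t : X ⟶ T) (h : X ⟶ Red.DS S A),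
      CartesianMonoidalCategory.lift (CartesianMonoidalCategory.lift h t ≫ θ) t ≫ θ' = h)
    (h₂ : ∀ (X : Over S) (t : X ⟶ T) (h : X ⟶ Red.DS S B),
      CartesianMonoidalCategory.lift (CartesianMonoidalCategory.lift h t ≫ θ') t ≫ θ = h)
    (w : T.left) :
    ∃ (D : T.left.Opens) (e : B ≃+ A), w ∈ D ∧ ∀ (X : Over S) (t : X ⟶ T) (h : X ⟶ Red.DS S A),
      (∀ x, t.left x ∈ D) → CartesianMonoidalCategory.lift h t ≫ θ = h ≫ Red.DSmap S e.toAddMonoidHom := by
  obtain ⟨D, φ, hwD, hD⟩ := exists_locally_map hB θ hθ w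
  obtain ⟨D', ψ, hwD', hD'⟩ := exists_locally_map hA θ' hθ' w
  have e1 : ∀ m, φ (ψ m) = m := fun m => by
    obtain ⟨X, t, h, ht, -, hinj⟩ := exists_point_distinct (T := T) A w
    have e := h₁ X t h
    rw [hD X t h (fun x => ht x ▸ hwD), hD' X t _ (fun x => ht x ▸ hwD'), Category.assoc] at e
    refine hinj ?_
    conv_rhs => rw [← e]
    rw [← Category.assoc, dsFn_DSmap, dsFn_DSmap]
  have e2 : ∀ m, ψ (φ m) = m := fun m => by
    obtain ⟨X, t, h, ht, -, hinj⟩ := exists_point_distinct (T := T) B w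
    have e := h₂ X t h
    rw [hD' X t h (fun x => ht x ▸ hwD'), hD X t _ (fun x => ht x ▸ hwD), Category.assoc] at e
    refine hinj ?_
    conv_rhs => rw [← e]
    rw [← Category.assoc, dsFn_DSmap, dsFn_DSmap]
  exact ⟨D, AddMonoidHom.toAddEquiv φ ψ (AddMonoidHom.ext e2) (AddMonoidHom.ext e1), hwD,
    fun X t h ht => hD X t h ht⟩

end Groth.Agent.FMult38
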