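import Groth.Agent.FMult38.Charts
import Groth.Agent.Grpd80.GlueQuot2
import Groth.Agent.Sga84.FiniteSigma
import Groth.Agent.SpFP87.CovDesc
import Groth.Agent.Approx60.AffineImage
import Groth.Agent.Unr55.DescProps

/-!
The scheme of finite subgroups of multiplicative type of an affine group.
-/

set_option autoImplicit false
set_option backward.isDefEq.respectTransparency.types false
set_option linter.style.haveILetI false
universe u

open CategoryTheory MonoidalCategory CartesianMonoidalCategory MonObj GrpObj AlgebraicGeometry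
open CategoryTheory.Limits

noncomputable section

namespace Groth.Agent.FMult38

open RedPts82 SGA3a.QuotCover

variable {S : Scheme.{u}} (G : Over S) [GrpObj G] [IsAffineHom G.hom] [LocallyOfFinitePresentation G.hom]

omit [GrpObj G] [IsAffineHom G.hom] [LocallyOfFinitePresentation G.hom] in
theorem Agree.refl {Q T M : Over S} {n : Q ⟶ G ⊗ M} (v : T ⟶ M) : Agree n v v := fun _ _ => Iff.rfl

theorem exists_rel {X : Over S} {p q : X ⟶ U G} (h : Agree (mU G) p q) :
    ∃ r : X ⟶ R G, r ≫ tgt G = p ∧ r ≫ src G = q := by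
  obtain ⟨r, hr⟩ := (agree_iff G p q).1 h
  exact ⟨r, by simpa using congrArg (· ≫ fst _ _) hr, by simpa using congrArg (· ≫ snd _ _) hr⟩

/-- The groupoid of the equivalence relation. -/
def grpd : Grpd.GroupoidScheme S :=
  relGrpd (src G) (tgt G)
    (exists_rel G (Agree.refl G (𝟙 (U G)))).choose (exists_rel G (Agree.refl G (𝟙 (U G)))).choose_spec
    (exists_rel G (agree_tgt_src G).symm).choose (exists_rel G (agree_tgt_src G).symm).choose_spec
    (fun _ a b hab => exists_rel G (((agree_tgt_src G).comp a).trans (hab ▸ (agree_tgt_src G).comp b)))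

theorem src_left_eq :
    (src G).left = Limits.Sigma.map fun i : Idx.{u} => (descO fun _ : AutI i => 𝟙 (P G i)).left := by
  refine Sigma.hom_ext _ _ fun i => ?_
  rw [Limits.Sigma.ι_map]
  exact Sigma.ι_desc _ i

theorem isFinite_src : IsFinite (src G).left := by
  rw [src_left_eq]
  refine prop_sigmaMap @IsFinite _ fun i => ?_
  haveI : ∀ e : AutI i, IsFinite (𝟙 (P G i) : P G i ⟶ P G i).left := fun _ =>
    inferInstanceAs (IsFinite (𝟙 (P G i).left))
  exact FiniteSigma84.isFinite_sigmaDesc _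

theorem flat_src : Flat (src G).left := by
  rw [src_left_eq]
  refine prop_sigmaMap @Flat _ fun i => ?_
  exact IsZariskiLocalAtSource.sigmaDesc fun _ => inferInstanceAs (Flat (𝟙 (P G i).left))

theorem lfp_src : LocallyOfFinitePresentation (src G).left := by
  rw [src_left_eq]
  refine prop_sigmaMap @LocallyOfFinitePresentation _ fun i => ?_
  exact IsZariskiLocalAtSource.sigmaDesc fun _ => inferInstanceAs (LocallyOfFinitePresentation (𝟙 (P G i).left))

/-- The relation preserves the types. -/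
theorem exists_tgt_eq (i : Idx.{u}) (p : (P G i).left) (r : (R G).left)
    (hr : (src G).left r = (inclO (P G) i).left p) :
    ∃ e : AutI i, (tgt G).left r = (inclO (P G) i).left ((act G e).left p) := by
  obtain ⟨k, r', rfl⟩ := exists_inclO_eq (RI G) r
  obtain ⟨e, w, rfl⟩ := exists_inclO_eq (fun _ : AutI k => P G k) r'
  have h1 := congrArg (fun f => f.left w) (incl_src G k e)
  have h2 := congrArg (fun f => f.left w) (incl_tgt G k e)
  simp only [Over.comp_left, Scheme.Hom.comp_apply] at h1 h2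
  rw [h1] at hr
  obtain ⟨rfl, hw⟩ := Sigma.mk.inj_iff.1 ((sigmaι_eq_iff _ _ _ _ _).1 hr)
  obtain rfl := eq_of_heq hw
  exact ⟨e, h2⟩

theorem orbit_affine (x : (U G).left) : ∃ V : (U G).left.Opens, IsAffineOpen V ∧
    ∀ r : (R G).left, (src G).left r = x → (tgt G).left r ∈ V := by
  obtain ⟨i, p, rfl⟩ := exists_inclO_eq (P G) x
  haveI := (mS G i).aff
  obtain ⟨W, hW, hpW, -⟩ := exists_isAffineOpen_mem_and_subset (U := (⊤ : S.Opens)) (x := (P G i).hom p) trivial
  refine ⟨(inclO (P G) i).left ''ᵁ ((P G i).hom ⁻¹ᵁ W), (hW.preimage _).image_of_isOpenImmersion _, fun r hr => ?_⟩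
  obtain ⟨e, he⟩ := exists_tgt_eq G i p r hr
  refine ⟨(act G e).left p, ?_, he.symm⟩
  show (P G i).hom ((act G e).left p) ∈ W
  rw [← Scheme.Hom.comp_apply, Over.w (act G e)]
  exact hpW

theorem isPullback_of_same {Z U Q M : Over S} (mU : Z ⟶ G ⊗ U) [Mono mU] (mK : Q ⟶ G ⊗ M) [Mono mK] (π : U ⟶ M)
    (h : Same mU mK π) :
    ∃ z : Z ⟶ Q, IsPullback z (mU ≫ snd G U) (mK ≫ snd G M) π := by
  obtain ⟨z, hz⟩ := (h Z mU).1 ⟨𝟙 _, Category.id_comp _⟩
  have key : ∀ s : PullbackCone (mK ≫ snd G M) π, ∃ l : s.pt ⟶ Z,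
      l ≫ mU = CartesianMonoidalCategory.lift (s.fst ≫ mK ≫ fst G M) s.snd := fun s => by
    refine (h s.pt _).2 ⟨s.fst, ?_⟩
    rw [lift_whiskerLeft]
    apply CartesianMonoidalCategory.hom_ext
    · simp
    · simpa using s.condition
  choose l hl using key
  refine ⟨z, ⟨⟨?_⟩, ⟨PullbackCone.IsLimit.mk _ l ?_ ?_ ?_⟩⟩⟩
  · rw [← Category.assoc, hz]; simp
  all_goals intro s
  · rw [← cancel_mono mK, Category.assoc, hz, ← Category.assoc, hl, lift_whiskerLeft]
    apply CartesianMonoidalCategory.hom_ext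
    · simp
    · simpa using s.condition.symm
  · rw [← Category.assoc, hl, lift_snd]
  · intro m h1 h2
    rw [← cancel_mono mU, hl]
    apply CartesianMonoidalCategory.hom_ext
    · rw [lift_fst, ← h1, Category.assoc, Category.assoc, ← Category.assoc z, hz]
      simp
    · rw [lift_snd, Category.assoc, h2]

theorem exists_quot : ∃ (M : Over S) (π : U G ⟶ M), IsFinite π.left ∧ Flat π.left ∧
    LocallyOfFinitePresentation π.left ∧ Surjective π.left ∧
    (∀ (T : Over S) (p q : T ⟶ U G), Agree (mU G) p q → p ≫ π = q ≫ π) ∧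
    (∀ (T : Over S) (a b : T ⟶ U G), a ≫ π = b ≫ π → Agree (mU G) a b) ∧
    (∀ (u u' : (U G).left), π.left u = π.left u' → ∃ r, (tgt G).left r = u ∧ (src G).left r = u') := by
  haveI : IsFinite (grpd G).s := isFinite_src G
  haveI : Flat (grpd G).s := flat_src G
  haveI : LocallyOfFinitePresentation (grpd G).s := lfp_src G
  obtain ⟨Y, p, hp⟩ := Grpd80.exists_niceQuot (grpd G) (fun x => orbit_affine G x)
  have hm : Mono (grpd G).j := ⟨fun {T} α β hab => by
    have e1 : (grpd G).j ≫ pullback.fst (U G).hom (U G).hom = (tgt G).left := pullback.lift_fst _ _ _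
    have e2 : (grpd G).j ≫ pullback.snd (U G).hom (U G).hom = (src G).left := pullback.lift_snd _ _ _
    exact hinj_of_mono (src G) (tgt G) α β
      ((congrArg (α ≫ ·) e1).symm.trans ((Category.assoc _ _ _).symm.trans
        ((congrArg (· ≫ pullback.fst (U G).hom (U G).hom) hab).trans
          ((Category.assoc _ _ _).trans (congrArg (β ≫ ·) e1)))))
      ((congrArg (α ≫ ·) e2).symm.trans ((Category.assoc _ _ _).symm.trans
        ((congrArg (· ≫ pullback.snd (U G).hom (U G).hom) hab).trans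
          ((Category.assoc _ _ _).trans (congrArg (β ≫ ·) e2)))))⟩
  obtain ⟨hpb, hfin, hflat, hlfp⟩ := hp.mono hm
  obtain ⟨g, hg, -⟩ := hp.desc (U G).hom ((Over.w (tgt G)).trans (Over.w (src G)).symm)
  let π : U G ⟶ Over.mk g := Over.homMk p hg
  refine ⟨Over.mk g, π, hfin, hflat, hlfp, hp.surj, fun T a b h => ?_, fun T a b h => ?_, fun u u' h => ?_⟩
  · obtain ⟨r, rfl, rfl⟩ := exists_rel G h
    rw [Category.assoc, Category.assoc]
    congr 1
    exact Over.OverMorphism.ext hp.w
  · have h' : a.left ≫ p = b.left ≫ p := congrArg CommaMorphism.left h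
    let r : T ⟶ R G := Over.homMk (hpb.lift a.left b.left h') (by
      show hpb.lift a.left b.left h' ≫ (R G).hom = T.hom
      rw [← Over.w (tgt G)]
      refine (Category.assoc _ _ _).symm.trans ?_
      exact (congrArg (· ≫ (U G).hom) (hpb.lift_fst a.left b.left h')).trans (Over.w a))
    have h1 : r ≫ tgt G = a := Over.OverMorphism.ext (hpb.lift_fst _ _ _)
    have h2 : r ≫ src G = b := Over.OverMorphism.ext (hpb.lift_snd _ _ _)
    rw [← h1, ← h2]
    exact (agree_tgt_src G).comp r
  · exact (hp.fibres u u').1 h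

/-- The scheme of finite subgroups of multiplicative type. -/
theorem exists_moduli :
    ∃ (M : Over S) (K : Over M.left) (_ : GrpObj K) (j : K ⟶ Red.bc M.hom G),
      (∀ m : ↥M.left, ∃ U : M.left.Opens, m ∈ U ∧ IsClosed (U : Set ↥M.left) ∧ IsAffineHom (U.ι ≫ M.hom)) ∧
      IsMonHom j ∧ IsImmersion j.left ∧ SGA3x.IsMultTypeFT K ∧ IsFinite K.hom ∧
      (∀ (T : Scheme.{u}) (f : T ⟶ S) (K' : Over T) [GrpObj K'] (j' : K' ⟶ Red.bc f G),
        IsMonHom j' → IsImmersion j'.left → SGA3x.IsMultTypeFT K' → IsFinite K'.hom →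
        ∃! v : T ⟶ M.left, v ≫ M.hom = f ∧
          ∃ φ : K'.left ≅ (Red.bc v K).left,
            φ.hom ≫ (Red.bc v K).hom = K'.hom ∧
            φ.hom ≫ ((Over.pullback v).map j).left ≫ pullback.fst (Red.bc M.hom G).hom v ≫ pullback.fst G.hom M.hom =
              j'.left ≫ pullback.fst G.hom f) ∧
      LocallyOfFinitePresentation M.hom := by
  obtain ⟨M, π, hfin, hflat, hlfp, hsurj, hrel, hst, hfib⟩ := exists_quot G
  obtain ⟨Q, mK, hcl, hUK⟩ := exists_descend (mU G) π hst
  haveI : Mono mK.left := inferInstance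
  haveI : Mono mK := Over.mono_of_mono_left _
  have hcov : IsCov π.left := isCov_of_fppf π.left
  have hsub := (subPts_mU G).descend hcov hUK
  obtain ⟨iK, hj⟩ := exists_subgroup mK hsub
  refine ⟨M, subK mK, iK, subJ mK, ?_, hj, inferInstanceAs (IsImmersion mK.left), ?_, ?_, ?_, ?_⟩
  · intro m
    obtain ⟨u, rfl⟩ := π.left.surjective m
    obtain ⟨i, p, rfl⟩ := exists_inclO_eq (P G) u
    have hsat : ∀ u' : (U G).left, π.left u' ∈ π.left '' Set.range (inclO (P G) i).left ↔
        u' ∈ Set.range (inclO (P G) i).left := fun u' => by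
      refine ⟨?_, fun h => ⟨u', h, rfl⟩⟩
      rintro ⟨_, ⟨p', rfl⟩, h⟩
      obtain ⟨r, hr, hr'⟩ := hfib u' _ h.symm
      obtain ⟨e, he⟩ := exists_tgt_eq G i p' r hr'
      exact ⟨_, he.symm.trans hr⟩
    have hclosed : IsClosed (Set.range (inclO (P G) i).left) := by
      rw [← isOpen_compl_iff]
      have : (Set.range (inclO (P G) i).left)ᶜ = ⋃ k ∈ {k | k ≠ i}, Set.range (inclO (P G) k).left := by
        ext z
        simp only [Set.mem_compl_iff, Set.mem_iUnion, Set.mem_setOf_eq, exists_prop]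
        constructor
        · intro hz
          obtain ⟨k, w, rfl⟩ := exists_inclO_eq (P G) z
          exact ⟨k, fun hk => hz (by subst hk; exact ⟨w, rfl⟩), w, rfl⟩
        · rintro ⟨k, hk, w, rfl⟩ ⟨w', hw'⟩
          exact hk ((Sigma.mk.inj_iff.1 ((sigmaι_eq_iff _ _ _ _ _).1 hw')).1).symm
      rw [this]
      exact isOpen_biUnion fun k _ => (inclO (P G) k).left.isOpenEmbedding.isOpen_range
    let O : M.left.Opens := ⟨π.left '' Set.range (inclO (P G) i).left,
      π.left.isOpenMap _ (inclO (P G) i).left.isOpenEmbedding.isOpen_range⟩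
    refine ⟨O, ⟨_, ⟨p, rfl⟩, rfl⟩, π.left.isClosedMap _ hclosed, ?_⟩
    refine isAffineHom_of_forall_exists_isAffineOpen _ fun s => ?_
    obtain ⟨W, hW, hsW, -⟩ := exists_isAffineOpen_mem_and_subset (U := (⊤ : S.Opens)) (x := s) trivial
    refine ⟨W, hsW, hW, ?_⟩
    rw [Scheme.Hom.comp_preimage, ← O.ι.isAffineOpen_iff_of_isOpenImmersion]
    set X := O.ι ''ᵁ O.ι ⁻¹ᵁ (M.hom ⁻¹ᵁ W)
    have hX : π.left ⁻¹ᵁ X = (inclO (P G) i).left ''ᵁ ((P G i).hom ⁻¹ᵁ W) := by
      ext z
      have hmem : π.left z ∈ X ↔ π.left z ∈ O ∧ M.hom (π.left z) ∈ W := by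
        constructor
        · rintro ⟨y, hy, e⟩
          rw [← e]
          exact ⟨y.2, hy⟩
        · exact fun ⟨h1, h2⟩ => ⟨⟨_, h1⟩, h2, rfl⟩
      show π.left z ∈ X ↔ _
      rw [hmem]
      have hw : ∀ z, M.hom (π.left z) = (U G).hom z := fun z => by rw [← Scheme.Hom.comp_apply, Over.w π]
      have hwi : ∀ w, (U G).hom ((inclO (P G) i).left w) = (P G i).hom w := fun w => by
        rw [← Scheme.Hom.comp_apply, Over.w (inclO (P G) i)]
      constructor
      · rintro ⟨hz, hzW⟩
        obtain ⟨w, rfl⟩ := (hsat z).1 hz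
        exact ⟨w, (congrArg (· ∈ W) ((hw _).trans (hwi w))).mp hzW, rfl⟩
      · rintro ⟨w, hw', rfl⟩
        exact ⟨(hsat _).2 ⟨w, rfl⟩, (congrArg (· ∈ W) ((hw _).trans (hwi w))).mpr hw'⟩
    haveI := (mS G i).aff
    haveI : IsAffine (π.left ⁻¹ᵁ X : Scheme.{u}) := by
      rw [hX]
      exact ((hW.preimage (P G i).hom).image_of_isOpenImmersion _)
    haveI : Surjective (π.left ∣_ X) := IsZariskiLocalAtTarget.restrict hsurj X
    haveI : IsFinite (π.left ∣_ X) := IsZariskiLocalAtTarget.restrict hfin X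
    exact Approx60.S0593 _ _ (π.left ∣_ X)
  · refine ⟨(U G).left, π.left, hflat, hsurj, fun V hV => ⟨π.left ⁻¹ᵁ V, (hV.preimage π.left).isCompact,
      Set.image_preimage_eq _ π.left.surjective⟩, fun z => ?_⟩
    obtain ⟨i, p, rfl⟩ := exists_inclO_eq (P G) z
    refine ⟨(inclO (P G) i).left.opensRange, ⟨p, rfl⟩, Car i, inferInstance,
      AddGroup.fg_iff_addMonoid_fg.2 inferInstance, ?_⟩
    let c : P G i ⟶ M := inclO (P G) i ≫ π
    haveI : Mono (subJ mK).left := inferInstanceAs (Mono mK.left)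
    obtain ⟨σ, _⟩ := exists_chart_iso (T := M.left) M.hom (subJ mK) (V' := P G i) c (uI G i)
      (mS G i).hom (mS G i).mono fun X x => by
        refine (fac_left_iff mK (x ≫ (G ◁ c))).symm.trans ?_
        refine Iff.trans ?_ ((fac_mU_whisker_iff G x (𝟙 _)).trans (by rw [Category.comp_id]))
        rw [Category.id_comp]
        show Fac mK (x ≫ (G ◁ (inclO (P G) i ≫ π))) ↔ _
        rw [whisker_comp_eq]
        exact (hUK _ _).symm
    let W := (inclO (P G) i).left.opensRange
    let θ : (W : Scheme.{u}) ⟶ (P G i).left := (inclO (P G) i).left.isoOpensRange.inv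
    have hθ : θ ≫ c.left = W.ι ≫ π.left := by
      rw [Over.comp_left, ← Category.assoc, Scheme.Hom.isoOpensRange_inv_comp]
    obtain ⟨a, ha, hai, -⟩ := exists_ds_bc (S := S) (P G i).hom (Car i)
    let τ : Grp.mk (Red.bc c.left (subK mK)) ≅ Grp.mk (Red.DS (P G i).left (Car i)) :=
      (Grp.mkIso' σ).symm ≪≫ (Grp.mkIso' (asIso a)).symm
    obtain ⟨η'⟩ := split_bc c.left θ ⟨τ⟩
    rw [hθ] at η'
    exact ⟨η'⟩
  · obtain ⟨z, hz⟩ := isPullback_of_same G (mU G) mK π hUK
    refine IsCov.descend (@IsFinite) Unr55.isFinite hcov (hz.map (Over.forget S)) ?_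
    have e : (mU G ≫ snd G (U G)).left = Limits.Sigma.map fun i => (snd (Red.DS S (Car i)) (P G i)).left := by
      refine Sigma.hom_ext _ _ fun i => ?_
      rw [Limits.Sigma.ι_map]
      refine congrArg CommaMorphism.left (show inclO (fun i => Red.DS S (Car i) ⊗ P G i) i ≫ mU G ≫ snd G (U G) =
        snd _ _ ≫ inclO (P G) i by simp [mU, mI])
    show IsFinite (mU G ≫ snd G (U G)).left
    rw [e]
    refine prop_sigmaMap @IsFinite _ fun i => ?_
    exact MorphismProperty.pullback_snd (P := @IsFinite) _ _ (isFinite_DS S (Car i))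
  · intro T f K' _ j' hj' himm hK' hfin'
    haveI := hj'
    haveI := himm
    haveI : Mono (ofSub f j') := by
      haveI : Mono (ofSub f j').left := inferInstanceAs (Mono j'.left)
      exact Over.mono_of_mono_left _
    obtain ⟨T', c, p, hc, hp⟩ := exists_atlas_cov G f j' hK' hfin'
    obtain ⟨v, hv, huniq⟩ := existsUnique_classify (mU G) mK π hcov hUK hrel (ofSub f j') c hc p hp
    refine ⟨v.left, ⟨Over.w v, (same_iff_iso mK f j' v).1 hv⟩, fun w hw => ?_⟩
    obtain ⟨hw1, hw2⟩ := hw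
    exact congrArg CommaMorphism.left
      (huniq (Over.homMk w hw1) ((same_iff_iso mK f j' (Over.homMk w hw1)).2 hw2))
  · haveI : LocallyOfFinitePresentation (π.left ≫ M.hom) := by
      rw [Over.w π]
      exact IsZariskiLocalAtSource.sigmaDesc fun i => (mS G i).lfp
    exact SpFP87.lfp_of_comp_of_section π.left M.hom π.left (𝟙 _) (Category.id_comp _)

end Groth.Agent.FMult38
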