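import Groth.Agent.Const38.HomDS.Chart
import Groth.Agent.RedPts82.MonoClosed
import Mathlib.RingTheory.Ideal.IdempotentFG

/-!
The open and closed locus where a family of homomorphisms from a finite diagonalisable group to an
affine group of finite type is a family of monomorphisms, in coordinates.
-/

set_option autoImplicit false
set_option backward.isDefEq.respectTransparency false
set_option backward.isDefEq.respectTransparency.types false
set_option linter.style.haveILetI false
set_option linter.unusedSectionVars false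
set_option maxSynthPendingDepth 5
universe u

open CategoryTheory MonoidalCategory CartesianMonoidalCategory MonObj GrpObj AlgebraicGeometry
open CategoryTheory.Limits
open TensorProduct WithConv

noncomputable section

namespace Groth.Agent.FMult38

open Const38.HomDS RedPts82

variable {k C : Type u} [CommRing k] [CommRing C] [Bialgebra k C] {G : Type} [CommGroup G]
variable {B B' : Type u} [CommRing B] [Algebra k B] [CommRing B'] [Algebra k B']

/-- The ideal of the coefficients of index `g`. -/
def cfIdeal (φ : C →ₐ[k] MA B G) (g : G) : Ideal B := Ideal.span (Set.range (cf φ g))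

/-- The subalgebra generated by the image. -/
def spanAlg (φ : C →ₐ[k] MA B G) : Subalgebra B (MA B G) := Algebra.adjoin B (Set.range φ)

theorem sum_cf_mul (φ : C →ₐ[k] MA B G) (hφ : IsHom φ) {σ : Type*} (s : Finset σ) (p q : σ → C) (x : C)
    (hx : CoalgebraStruct.comul (R := k) x = ∑ l ∈ s, p l ⊗ₜ[k] q l) (a b : G) [Decidable (a = b)] :
    ∑ l ∈ s, cf φ a (p l) * cf φ b (q l) = if a = b then cf φ a x else 0 := by
  classical
  rw [← coeff_convMul G B φ s p q x hx a b, hφ]
  simp [cf, coeff_dd]

theorem single_mem_spanAlg (φ : C →ₐ[k] MA B G) (hφ : IsHom φ) {g : G} {b : B} (hb : b ∈ cfIdeal φ g) :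
    MonoidAlgebra.single g b ∈ spanAlg φ := by
  classical
  induction hb using Submodule.span_induction with
  | mem b hb =>
    obtain ⟨x, rfl⟩ := hb
    obtain ⟨s, hs⟩ := TensorProduct.exists_finset (CoalgebraStruct.comul (R := k) x)
    have e : MonoidAlgebra.single g (cf φ g x) = ∑ l ∈ s, cf φ g l.2 • φ l.1 := by
      refine MonoidAlgebra.ext (Finsupp.ext fun a => ?_)
      simp only [MonoidAlgebra.coeff_sum, Finsupp.coe_finsetSum, Finset.sum_apply, MonoidAlgebra.coeff_smul,
        Finsupp.smul_apply, smul_eq_mul, MonoidAlgebra.coeff_single_apply]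
      rw [Finset.sum_congr rfl fun l _ => mul_comm (cf φ g l.2) ((φ l.1).coeff a)]
      rw [show ∑ l ∈ s, (φ l.1).coeff a * cf φ g l.2 = if a = g then cf φ a x else 0 from
        sum_cf_mul φ hφ s Prod.fst Prod.snd x hs a g]
      by_cases h : a = g
      · subst h; simp
      · rw [if_neg h, if_neg (Ne.symm h)]
    rw [e]
    exact Subalgebra.sum_mem _ fun l _ => Subalgebra.smul_mem _ (Algebra.subset_adjoin (Set.mem_range_self (f := φ) l.1)) _
  | zero => rw [MonoidAlgebra.single_zero]; exact Subalgebra.zero_mem _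
  | add x y _ _ hx hy => rw [MonoidAlgebra.single_add]; exact Subalgebra.add_mem _ hx hy
  | smul r x _ hx => rw [← MonoidAlgebra.smul_single]; exact Subalgebra.smul_mem _ hx r

theorem coeff_mem_cfIdeal (φ : C →ₐ[k] MA B G) {y : MA B G} (hy : y ∈ spanAlg φ) (g : G) :
    y.coeff g ∈ cfIdeal φ g := by
  have hcl : spanAlg φ = Algebra.adjoin B ((MonoidHom.mrange (φ : C →* MA B G) : Submonoid (MA B G)) : Set (MA B G)) := rfl
  rw [hcl, ← Subalgebra.mem_toSubmodule, Algebra.adjoin_eq_span, Submonoid.closure_eq] at hy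
  induction hy using Submodule.span_induction with
  | mem y hy =>
    obtain ⟨x, rfl⟩ := hy
    exact Ideal.subset_span ⟨x, rfl⟩
  | zero => simp
  | add x y _ _ hx hy => rw [MonoidAlgebra.coeff_add]; exact Ideal.add_mem _ hx hy
  | smul r x _ hx => rw [MonoidAlgebra.coeff_smul]; exact Ideal.mul_mem_left _ r hx

theorem isIdempotentElem_cfIdeal (φ : C →ₐ[k] MA B G) (hφ : IsHom φ) (g : G) :
    IsIdempotentElem (cfIdeal φ g) := by
  classical
  refine le_antisymm Ideal.mul_le_left (Ideal.span_le.2 ?_)
  rintro _ ⟨x, rfl⟩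
  obtain ⟨s, hs⟩ := TensorProduct.exists_finset (CoalgebraStruct.comul (R := k) x)
  have e := sum_cf_mul φ hφ s Prod.fst Prod.snd x hs g g
  rw [if_pos rfl] at e
  rw [← e]
  exact Ideal.sum_mem _ fun l _ => Ideal.mul_mem_mul (Ideal.subset_span ⟨_, rfl⟩) (Ideal.subset_span ⟨_, rfl⟩)

variable [Finite G]

theorem fg_cfIdeal (φ : C →ₐ[k] MA B G) (hφ : IsHom φ) [Algebra.FiniteType k C] (g : G) :
    (cfIdeal φ g).FG := by
  classical
  obtain ⟨s, hs⟩ := ‹Algebra.FiniteType k C›.out
  haveI : Module.Finite B (MA B G) := Module.Finite.of_basis (MonoidAlgebra.basis G B)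
  have hfin : (Algebra.adjoin B (φ '' (s : Set C))).toSubmodule.FG :=
    fg_adjoin_of_finite (s.finite_toSet.image _) fun y _ => Algebra.IsIntegral.isIntegral y
  have heq : spanAlg φ = Algebra.adjoin B (φ '' (s : Set C)) := by
    refine le_antisymm (Algebra.adjoin_le ?_) (Algebra.adjoin_mono (Set.image_subset_range _ _))
    rintro _ ⟨x, rfl⟩
    have hx : φ x ∈ Algebra.adjoin k (φ '' (s : Set C)) := by
      rw [← AlgHom.map_adjoin, hs]
      exact ⟨x, trivial, rfl⟩
    have hle : Algebra.adjoin k (φ '' (s : Set C)) ≤ (Algebra.adjoin B (φ '' (s : Set C))).restrictScalars k :=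
      Algebra.adjoin_le fun y hy => Algebra.subset_adjoin hy
    exact hle hx
  rw [← heq] at hfin
  have e : cfIdeal φ g = Submodule.map ((Finsupp.lapply g).comp (MonoidAlgebra.coeffLinearEquiv B).toLinearMap)
      (spanAlg φ).toSubmodule := by
    refine le_antisymm (Ideal.span_le.2 ?_) ?_
    · rintro _ ⟨x, rfl⟩
      exact ⟨φ x, Algebra.subset_adjoin ⟨x, rfl⟩, rfl⟩
    · rintro _ ⟨y, hy, rfl⟩
      exact coeff_mem_cfIdeal φ hy g
  rw [e]
  exact hfin.map _

theorem spanAlg_eq_top_iff (φ : C →ₐ[k] MA B G) (hφ : IsHom φ) :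
    spanAlg φ = ⊤ ↔ ∀ g, cfIdeal φ g = ⊤ := by
  constructor
  · intro h g
    have h1 := coeff_mem_cfIdeal φ (y := MonoidAlgebra.single g 1) (by rw [h]; exact Algebra.mem_top) g
    rw [MonoidAlgebra.coeff_single, Finsupp.single_eq_same] at h1
    exact (Ideal.eq_top_iff_one _).2 h1
  · intro h
    rw [eq_top_iff]
    intro y _
    rw [← MonoidAlgebra.sum_coeff_single y]
    exact Subalgebra.sum_mem _ fun g _ => single_mem_spanAlg φ hφ (h g ▸ Submodule.mem_top)

theorem cfIdeal_push (φ : C →ₐ[k] MA B G) (f : B →ₐ[k] B') (g : G) :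
    cfIdeal (push f φ) g = (cfIdeal φ g).map f := by
  rw [cfIdeal, cfIdeal, Ideal.map_span, ← Set.range_comp]
  congr 2

/-- The idempotent cutting out the parameters where the image generates. -/
theorem exists_idempotent (φ : C →ₐ[k] MA B G) (hφ : IsHom φ) [Algebra.FiniteType k C] :
    ∃ e : B, IsIdempotentElem e ∧ ∀ (B' : Type u) [CommRing B'] [Algebra k B'] (f : B →ₐ[k] B'),
      (spanAlg (push f φ) = ⊤ ↔ f e = 1) := by
  classical
  choose ε hε hεI using fun g => ((cfIdeal φ g).isIdempotentElem_iff_of_fg (fg_cfIdeal φ hφ g)).1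
    (isIdempotentElem_cfIdeal φ hφ g)
  haveI := Fintype.ofFinite G
  refine ⟨∏ g, ε g, ?_, fun B' _ _ f => ?_⟩
  · show _ * _ = _
    rw [← Finset.prod_mul_distrib]
    exact Finset.prod_congr rfl fun g _ => hε g
  rw [spanAlg_eq_top_iff _ (isHom_push f hφ)]
  have key : ∀ g, cfIdeal (push f φ) g = Ideal.span {f (ε g)} := fun g => by
    rw [cfIdeal_push, hεI, Ideal.map_span, Set.image_singleton]
  constructor
  · intro h
    rw [map_prod]
    refine Finset.prod_eq_one fun g _ => ?_
    have hu : IsUnit (f (ε g)) := Ideal.span_singleton_eq_top.1 ((key g).symm.trans (h g))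
    exact hu.mul_eq_left.1 (((hε g).map f.toRingHom : IsIdempotentElem (f (ε g))))
  · intro h g
    rw [key, Ideal.span_singleton_eq_top]
    rw [map_prod] at h
    exact isUnit_of_dvd_one (h ▸ Finset.dvd_prod_of_mem (fun g => f (ε g)) (Finset.mem_univ g))

end Groth.Agent.FMult38

namespace Groth.Agent.FMult38

open Const38.HomDS RedPts82

variable {k : Type u} [CommRing k] {G : Type} [CommGroup G] [Finite G] {H : Over (Spec (CommRingCat.of k))}
  [GrpObj H] (ψD : Hopf.sp k (MonoidAlgebra k G) ≅ H) [IsMonHom ψD.hom]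
  {C : Type u} [CommRing C] [HopfAlgebra k C] {Q : Over (Spec (CommRingCat.of k))} [GrpObj Q]
  (ψ : Hopf.sp k C ≅ Q) [IsMonHom ψ.hom] {B : Type u} [CommRing B] [Algebra k B]

/-- A family of monomorphisms. -/
def MonoFam {S : Scheme.{u}} {D Q T : Over S} (u : D ⊗ T ⟶ Q) : Prop :=
  ∀ (X : Over S) (t : X ⟶ T) (h h' : X ⟶ D),
    CartesianMonoidalCategory.lift h t ≫ u = CartesianMonoidalCategory.lift h' t ≫ u → h = h'

theorem monoFam_iff_span (f : H ⊗ VecGrp.pt k B ⟶ Q) (hf : AutFam.IsHomFamily H Q f) :
    MonoFam f ↔ spanAlg (algOf ψD ψ f) = ⊤ := by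
  classical
  have hφ := (isHomFamily_iff ψD ψ f).1 hf
  set φ := algOf ψD ψ f with hφdef
  constructor
  · intro hm
    by_contra hne
    have hne' : ∃ y, y ∉ (spanAlg φ).toSubring := by
      by_contra h
      push Not at h
      exact hne (eq_top_iff.2 fun y _ => h y)
    obtain ⟨A, _, χ, χ₀, hbase, hagree, hd⟩ := exists_hom_pair (spanAlg φ).toSubring
      (fun a => by
        rw [show MonoidAlgebra.single (1 : G) a = algebraMap B (MA B G) a by simp]
        exact Subalgebra.algebraMap_mem _ _)
      (fun q hq g => single_mem_spanAlg φ hφ (coeff_mem_cfIdeal φ hq g))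
      (fun g a hga => by
        have ha := coeff_mem_cfIdeal φ hga g
        rw [MonoidAlgebra.coeff_single, Finsupp.single_eq_same] at ha
        have ha2 : a ∈ cfIdeal φ g := ha
        refine single_mem_spanAlg φ hφ ?_
        -- the inverse is a positive power
        haveI := Fintype.ofFinite G
        have hm1 : g⁻¹ = g ^ (2 * Fintype.card G - 1) := by
          refine inv_eq_of_mul_eq_one_right ?_
          rw [← pow_succ', Nat.sub_add_cancel (by have := Fintype.card_pos (α := G); omega), pow_mul',
            pow_card_eq_one, one_pow]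
        have hstep : ∀ m : ℕ, cfIdeal φ g ≤ cfIdeal φ (g ^ (m + 1)) := fun m => by
          induction m with
          | zero => rw [pow_one]
          | succ m ih =>
            have h1 : cfIdeal φ g * cfIdeal φ (g ^ (m + 1)) ≤ cfIdeal φ (g ^ (m + 1 + 1)) := by
              refine Ideal.mul_le.2 fun x hx y hy => ?_
              have h2 := coeff_mem_cfIdeal φ (Subalgebra.mul_mem _ (single_mem_spanAlg φ hφ hx)
                (single_mem_spanAlg φ hφ hy)) (g ^ (m + 1 + 1))
              rwa [MonoidAlgebra.single_mul_single, ← pow_succ', MonoidAlgebra.coeff_single,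
                Finsupp.single_eq_same] at h2
            refine le_trans ?_ h1
            conv_lhs => rw [← (isIdempotentElem_cfIdeal φ hφ g).eq]
            exact Ideal.mul_mono le_rfl ih
        rw [hm1, show 2 * Fintype.card G - 1 = (2 * Fintype.card G - 2) + 1 by
          have := Fintype.card_pos (α := G); omega]
        exact hstep _ ha2)
      hne'
    letI : Algebra k A := (χ.comp ((algebraMap B (MA B G)).comp (algebraMap k B))).toAlgebra
    have hb : ∀ r : B, χ₀ (algebraMap B (MA B G) r) = χ (algebraMap B (MA B G) r) :=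
      fun r => RingHom.congr_fun hbase r
    let a : MA B G →ₐ[k] A := { χ with
      commutes' := fun r => by
        show χ (algebraMap k (MA B G) r) = χ (algebraMap B (MA B G) (algebraMap k B r))
        rw [← IsScalarTower.algebraMap_apply] }
    let a₀ : MA B G →ₐ[k] A := { χ₀ with
      commutes' := fun r => by
        show χ₀ (algebraMap k (MA B G) r) = χ (algebraMap B (MA B G) (algebraMap k B r))
        rw [← hb, ← IsScalarTower.algebraMap_apply] }
    let y := VecGrp.ptMap a ≫ q ψD B
    let y₀ := VecGrp.ptMap a₀ ≫ q ψD B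
    have hs : y ≫ CartesianMonoidalCategory.snd _ _ = y₀ ≫ CartesianMonoidalCategory.snd _ _ := by
      simp only [y, y₀, q, Category.assoc, lift_snd, ← ptMap_comp]
      congr 1
      exact AlgHom.ext fun r => (hb r).symm
    have hfeq : y ≫ f = y₀ ≫ f := by
      simp only [y, y₀, Category.assoc, ← q_algOf ψD ψ f, Hopf.e_natural]
      congr 2
      exact AlgHom.ext fun x => hagree (φ x) (Algebra.subset_adjoin ⟨x, rfl⟩)
    have hl : ∀ z : VecGrp.pt k A ⟶ H ⊗ VecGrp.pt k B,
        CartesianMonoidalCategory.lift (z ≫ CartesianMonoidalCategory.fst _ _) (z ≫ CartesianMonoidalCategory.snd _ _) = z :=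
      fun z => by rw [← comp_lift, lift_fst_snd, Category.comp_id]
    have e := hm _ (y ≫ CartesianMonoidalCategory.snd _ _) (y ≫ CartesianMonoidalCategory.fst _ _)
      (y₀ ≫ CartesianMonoidalCategory.fst _ _) (by rw [hl y, hs, hl y₀]; exact hfeq)
    have hyy : y = y₀ := by rw [← hl y, ← hl y₀, e, hs]
    have : a = a₀ := ptMap_injective ((cancel_mono (q ψD B)).1 hyy)
    exact hd (congrArg (fun α : MA B G →ₐ[k] A => α.toRingHom) this)
  · intro htop X t h h' hh
    refine eq_of_affine_points h h' fun D _ _ y => ?_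
    obtain ⟨a, ha⟩ := ptMap_surjective (CartesianMonoidalCategory.lift (y ≫ h) (y ≫ t) ≫ inv (q ψD B))
    obtain ⟨a', ha'⟩ := ptMap_surjective (CartesianMonoidalCategory.lift (y ≫ h') (y ≫ t) ≫ inv (q ψD B))
    have ea : VecGrp.ptMap a ≫ q ψD B = CartesianMonoidalCategory.lift (y ≫ h) (y ≫ t) := by simp [ha]
    have ea' : VecGrp.ptMap a' ≫ q ψD B = CartesianMonoidalCategory.lift (y ≫ h') (y ≫ t) := by simp [ha']
    have haa : a = a' := by
      have h1 : a.comp φ = a'.comp φ := by
        apply WithConv.toConv_injective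
        apply (Hopf.e ψ D).injective
        rw [← Hopf.e_natural, ← Hopf.e_natural, q_algOf, ← Category.assoc, ← Category.assoc, ea, ea',
          ← comp_lift, ← comp_lift, Category.assoc, Category.assoc, hh]
      have h2 : a.comp MonoidAlgebra.singleOneAlgHom = a'.comp (MonoidAlgebra.singleOneAlgHom : B →ₐ[k] MA B G) := by
        apply ptMap_injective
        have e1 := congrArg (· ≫ CartesianMonoidalCategory.snd _ _) (ea.trans rfl)
        have e2 := congrArg (· ≫ CartesianMonoidalCategory.snd _ _) (ea'.trans rfl)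
        simp only [q, Category.assoc, lift_snd, ← ptMap_comp] at e1 e2
        rw [e1, e2]
      refine AlgHom.ext fun z => ?_
      have hz : z ∈ spanAlg φ := htop ▸ Algebra.mem_top
      induction hz using Algebra.adjoin_induction with
      | mem z hz =>
        obtain ⟨x, rfl⟩ := hz
        exact AlgHom.congr_fun h1 x
      | algebraMap r =>
        rw [show algebraMap B (MA B G) r = (MonoidAlgebra.singleOneAlgHom : B →ₐ[k] MA B G) r by simp]
        exact AlgHom.congr_fun h2 r
      | add x y _ _ hx hy => rw [map_add, map_add, hx, hy]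
      | mul x y _ _ hx hy => rw [map_mul, map_mul, hx, hy]
    have e := congrArg (· ≫ CartesianMonoidalCategory.fst _ _) (ea.symm.trans (haa ▸ ea'))
    simpa using e

include ψD ψ in
/-- The locus of monomorphisms of a family over an affine parameter is cut out by an idempotent. -/
theorem exists_mono_idempotent [Algebra.FiniteType k C] (f : H ⊗ VecGrp.pt k B ⟶ Q)
    (hf : AutFam.IsHomFamily H Q f) :
    ∃ e : B, IsIdempotentElem e ∧ ∀ (B' : Type u) [CommRing B'] [Algebra k B'] (g : B →ₐ[k] B'),
      (MonoFam ((H ◁ VecGrp.ptMap g) ≫ f) ↔ g e = 1) := by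
  obtain ⟨e, he, h⟩ := exists_idempotent (algOf ψD ψ f) ((isHomFamily_iff ψD ψ f).1 hf)
  refine ⟨e, he, fun B' _ _ g => ?_⟩
  rw [monoFam_iff_span ψD ψ _ ?_, algOf_precomp]
  · exact h B' g
  · intro X g₁ g₂ t
    simp only [lift_whiskerLeft_assoc]
    exact hf X g₁ g₂ _

end Groth.Agent.FMult38
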