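import Groth.Agent.FMult38.MonoCoord
import Groth.Agent.FMult38.DSPoints

/-!
The locus where a family of homomorphisms from a finite diagonalisable group to an affine group of
finite presentation consists of monomorphisms is open and closed.
-/

set_option autoImplicit false
set_option backward.isDefEq.respectTransparency.types false
set_option linter.style.haveILetI false
universe u

open CategoryTheory MonoidalCategory CartesianMonoidalCategory MonObj GrpObj AlgebraicGeometry
open CategoryTheory.Limits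
open TensorProduct WithConv

noncomputable section

namespace Groth.Agent.FMult38

open Const38.HomDS RedPts82

variable {S : Scheme.{u}}

theorem monoFam_whisker_iff {D Q T X : Over S} (u : D ⊗ T ⟶ Q) (x : X ⟶ T) :
    MonoFam ((D ◁ x) ≫ u) ↔ ∀ (Y : Over S) (t : Y ⟶ X) (h h' : Y ⟶ D),
      CartesianMonoidalCategory.lift h (t ≫ x) ≫ u = CartesianMonoidalCategory.lift h' (t ≫ x) ≫ u → h = h' := by
  simp only [MonoFam, lift_whiskerLeft_assoc]

/-- Families of monomorphisms restrict. -/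
theorem MonoFam.restrict {D Q T X : Over S} {u : D ⊗ T ⟶ Q} (h : MonoFam u) (x : X ⟶ T) :
    MonoFam ((D ◁ x) ≫ u) :=
  (monoFam_whisker_iff u x).2 fun Y t => h Y _

/-- Being a family of monomorphisms is local on the parameters. -/
theorem monoFam_of_cover {D Q T X : Over S} (u : D ⊗ T ⟶ Q) (x : X ⟶ T) {σ : Type*} (U : σ → X.left.Opens)
    (hU : ∀ p, ∃ i, p ∈ U i)
    (h : ∀ i, MonoFam ((D ◁ ((Over.homMk (U i).ι rfl : Over.mk ((U i).ι ≫ X.hom) ⟶ X) ≫ x)) ≫ u)) :
    MonoFam ((D ◁ x) ≫ u) := by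
  refine (monoFam_whisker_iff u x).2 fun Y t h₁ h₂ hh => ?_
  refine Over.OverMorphism.ext (Scheme.Cover.hom_ext
    (Y.left.openCoverOfIsOpenCover (fun i => t.left ⁻¹ᵁ U i)
      (TopologicalSpace.IsOpenCover.mk (top_le_iff.mp fun y _ => by
        obtain ⟨i, hi⟩ := hU (t.left y)
        exact TopologicalSpace.Opens.mem_iSup.mpr ⟨i, hi⟩))) _ _ fun i => ?_)
  change (t.left ⁻¹ᵁ U i).ι ≫ h₁.left = (t.left ⁻¹ᵁ U i).ι ≫ h₂.left
  let Y' : Over S := Over.mk ((t.left ⁻¹ᵁ U i).ι ≫ Y.hom)
  let j : Y' ⟶ Y := Over.homMk (t.left ⁻¹ᵁ U i).ι rfl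
  let t' : Y' ⟶ Over.mk ((U i).ι ≫ X.hom) := Over.homMk (t.left ∣_ U i) (by
    show t.left ∣_ U i ≫ (U i).ι ≫ X.hom = _
    rw [← Category.assoc, morphismRestrict_ι, Category.assoc, Over.w t]
    rfl)
  have ht : t' ≫ (Over.homMk (U i).ι rfl : Over.mk ((U i).ι ≫ X.hom) ⟶ X) = j ≫ t :=
    Over.OverMorphism.ext (morphismRestrict_ι t.left (U i))
  have := (monoFam_whisker_iff u _).1 (h i) Y' t' (j ≫ h₁) (j ≫ h₂) (by
    rw [← Category.assoc t', ht, Category.assoc, ← comp_lift, ← comp_lift, Category.assoc, Category.assoc, hh])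
  exact congrArg CommaMorphism.left this

section Affine

variable {k : Type u} [CommRing k] (g : Spec (CommRingCat.of k) ⟶ S)

/-- Over an affine scheme of parameters the locus of monomorphisms is cut out by an idempotent. -/
theorem exists_mono_affine (A : Type) [AddCommGroup A] [Finite A] {G : Over S} [GrpObj G] [IsAffineHom G.hom]
    [LocallyOfFinitePresentation G.hom] {T : Over S} (u : Red.DS S A ⊗ T ⟶ G)
    (hu : AutFam.IsHomFamily (Red.DS S A) G u) (t₀ : Over.mk g ⟶ T) :
    ∃ e : k, IsIdempotentElem e ∧ ∀ (D : Type u) [CommRing D] (ρ : k →+* D)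
      (x : Over.mk (Spec.map (CommRingCat.ofHom ρ) ≫ g) ⟶ Over.mk g),
      x.left = Spec.map (CommRingCat.ofHom ρ) → (MonoFam ((Red.DS S A ◁ (x ≫ t₀)) ≫ u) ↔ ρ e = 1) := by
  obtain ⟨ψD, _⟩ := Hopf.exists_coord_DS k A
  let Q := Red.bc g G
  haveI : IsAffineHom Q.hom :=
    have := isAffineHom_isStableUnderBaseChange.{u}
    MorphismProperty.pullback_snd (P := @IsAffineHom) _ _ ‹_›
  haveI : LocallyOfFiniteType Q.hom := inferInstanceAs (LocallyOfFiniteType (pullback.snd G.hom g))
  haveI : IsAffine Q.left := isAffine_of_isAffineHom Q.hom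
  obtain ⟨C, _, _, ψ, _⟩ := Hopf.exists_coord (k := k) Q
  haveI : Algebra.FiniteType k C := by
    have : LocallyOfFiniteType (Spec.map (CommRingCat.ofHom (algebraMap k C))) := by
      rw [show Spec.map (CommRingCat.ofHom (algebraMap k C)) = ψ.hom.left ≫ Q.hom from (Over.w ψ.hom).symm]
      exact MorphismProperty.RespectsIso.precomp @LocallyOfFiniteType ((Over.forget _).mapIso ψ).hom _
        (show LocallyOfFiniteType Q.hom from inferInstance)
    rw [HasRingHomProperty.Spec_iff (P := @LocallyOfFiniteType)] at this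
    exact RingHom.finiteType_algebraMap.mp this
  obtain ⟨a, ham, hai, -⟩ := exists_ds_bc (S := S) g A
  let H := Red.DS (Spec (CommRingCat.of k)) A
  let t₁ : (Over.map g).obj (VecGrp.pt k k) ⟶ T := (Over.homMk (𝟙 _) (by
    show 𝟙 _ ≫ g = Spec.map _ ≫ g
    rw [show Spec.map (CommRingCat.ofHom (algebraMap k k)) = 𝟙 _ from Spec.map_id _]) :
      (Over.map g).obj (VecGrp.pt k k) ⟶ Over.mk g) ≫ t₀
  let f : H ⊗ VecGrp.pt k k ⟶ Q := ofBase g
    (CartesianMonoidalCategory.lift (toBase g (fst _ _ ≫ a)) ((Over.map g).map (snd _ _) ≫ t₁) ≫ u)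
  have hfpt : ∀ (Y : Over (Spec (CommRingCat.of k))) (h : Y ⟶ H) (s : Y ⟶ VecGrp.pt k k),
      toBase g (CartesianMonoidalCategory.lift h s ≫ f) =
        CartesianMonoidalCategory.lift (toBase g (h ≫ a)) ((Over.map g).map s ≫ t₁) ≫ u := fun Y h s => by
    rw [toBase_comp, toBase_ofBase, comp_lift_assoc, ← toBase_comp, ← Category.assoc, lift_fst,
      ← Category.assoc, ← Functor.map_comp, lift_snd]
  have hf : AutFam.IsHomFamily H Q f := fun Y h h' s => by
    refine toBase_injective g ?_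
    rw [toBase_mul, hfpt, hfpt, hfpt, MonObj.mul_comp _ _ a]
    exact (congrArg (fun q => CartesianMonoidalCategory.lift q _ ≫ u) (toBase_mul g (h ≫ a) (h' ≫ a))).trans (hu _ _ _ _)
  obtain ⟨e, he, hiff⟩ := exists_mono_idempotent ψD ψ f hf
  refine ⟨e, he, fun D _ ρ x hx => ?_⟩
  letI : Algebra k D := ρ.toAlgebra
  rw [show ρ e = (Algebra.ofId k D) e from rfl, ← hiff D (Algebra.ofId k D), monoFam_whisker_iff,
    monoFam_whisker_iff]
  constructor
  · intro hm Y s h h' hh
    have hh' := congrArg (toBase g) hh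
    rw [hfpt, hfpt] at hh'
    let s' : (Over.map g).obj Y ⟶ Over.mk (Spec.map (CommRingCat.ofHom ρ) ≫ g) :=
      Over.homMk s.left (by
        show s.left ≫ Spec.map _ ≫ g = Y.hom ≫ g
        rw [← Category.assoc]
        exact congrArg (· ≫ g) (Over.w s))
    have hs : s' ≫ x ≫ t₀ = (Over.map g).map (s ≫ VecGrp.ptMap (Algebra.ofId k D)) ≫ t₁ := by
      simp only [t₁, ← Category.assoc]
      congr 1
      refine Over.OverMorphism.ext ?_
      show s.left ≫ x.left = (s.left ≫ Spec.map (CommRingCat.ofHom ρ)) ≫ 𝟙 _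
      rw [hx, Category.comp_id]
    have := hm _ s' (toBase g (h ≫ a)) (toBase g (h' ≫ a)) (by rw [hs]; exact hh')
    exact (cancel_mono a).1 (toBase_injective g this)
  · intro hm X s h h' hh
    let Y : Over (Spec (CommRingCat.of k)) := Over.mk (s.left ≫ Spec.map (CommRingCat.ofHom ρ))
    let c : (Over.map g).obj Y ≅ X := Over.isoMk (Iso.refl _) (by
      show 𝟙 _ ≫ X.hom = (s.left ≫ Spec.map (CommRingCat.ofHom ρ)) ≫ g
      rw [Category.id_comp, Category.assoc]
      exact (Over.w s).symm)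
    let sY : Y ⟶ VecGrp.pt k D := Over.homMk s.left rfl
    have hs : (Over.map g).map (sY ≫ VecGrp.ptMap (Algebra.ofId k D)) ≫ t₁ = c.hom ≫ s ≫ x ≫ t₀ := by
      simp only [t₁, ← Category.assoc]
      congr 1
      refine Over.OverMorphism.ext ?_
      show (s.left ≫ Spec.map (CommRingCat.ofHom ρ)) ≫ 𝟙 _ = (𝟙 _ ≫ s.left) ≫ x.left
      rw [hx, Category.comp_id, Category.id_comp]
    have key : ∀ q : X ⟶ Red.DS S A, toBase g ((ofBase g (c.hom ≫ q) ≫ inv a) ≫ a) = c.hom ≫ q := fun q => by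
      rw [Category.assoc, IsIso.inv_hom_id, Category.comp_id, toBase_ofBase]
    have := hm Y sY (ofBase g (c.hom ≫ h) ≫ inv a) (ofBase g (c.hom ≫ h') ≫ inv a) (toBase_injective g (by
      rw [hfpt, hfpt, key, key, hs, ← comp_lift, ← comp_lift, Category.assoc, Category.assoc]
      exact congrArg (c.hom ≫ ·) hh))
    rw [← cancel_epi c.hom, ← key h, ← key h', this]

end Affine

/-- The parameters at which a family is one of monomorphisms form an open and closed set, over which the
family is one of monomorphisms. -/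
theorem exists_mono_locus (A : Type) [AddCommGroup A] [Finite A] {G : Over S} [GrpObj G] [IsAffineHom G.hom]
    [LocallyOfFinitePresentation G.hom] {T : Over S} (u : Red.DS S A ⊗ T ⟶ G)
    (hu : AutFam.IsHomFamily (Red.DS S A) G u) :
    ∃ U : T.left.Opens, IsClosed (U : Set T.left) ∧
      ∀ (X : Over S) (x : X ⟶ T), MonoFam ((Red.DS S A ◁ x) ≫ u) ↔ ∀ p, x.left p ∈ U := by
  let pt : ∀ w : T.left, Over.mk (T.left.fromSpecResidueField w ≫ T.hom) ⟶ T :=
    fun w => Over.homMk (T.left.fromSpecResidueField w) rfl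
  let L : Set T.left := {w | MonoFam ((Red.DS S A ◁ pt w) ≫ u)}
  -- affine charts
  have hchart : ∀ W : T.left.Opens, IsAffineOpen W → ∃ e : Γ(T.left, W), IsIdempotentElem e ∧
      ∀ (X : Over S) (x : X ⟶ T), IsAffine X.left → (∀ p, x.left p ∈ W) →
        (MonoFam ((Red.DS S A ◁ x) ≫ u) ↔ ∀ p, x.left p ∈ T.left.basicOpen e) := by
    intro W hW
    let t₀ : Over.mk (hW.fromSpec ≫ T.hom) ⟶ T := Over.homMk hW.fromSpec rfl
    obtain ⟨e, he, hiff⟩ := exists_mono_affine (hW.fromSpec ≫ T.hom) A u hu t₀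
    refine ⟨e, he, fun X x hXa hxW => ?_⟩
    haveI := hXa
    have hrange : Set.range x.left ⊆ Set.range hW.fromSpec := by
      rw [hW.range_fromSpec]; rintro _ ⟨p, rfl⟩; exact hxW p
    let l : X.left ⟶ Spec Γ(T.left, W) := IsOpenImmersion.lift hW.fromSpec x.left hrange
    have hl : l ≫ hW.fromSpec = x.left := IsOpenImmersion.lift_fac _ _ _
    let ρ : Γ(T.left, W) ⟶ Γ(X.left, ⊤) := Spec.preimage (X.left.isoSpec.inv ≫ l)
    have hρ : Spec.map ρ = X.left.isoSpec.inv ≫ l := Spec.map_preimage _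
    let X' : Over S := Over.mk (Spec.map ρ ≫ hW.fromSpec ≫ T.hom)
    let x' : X' ⟶ Over.mk (hW.fromSpec ≫ T.hom) := Over.homMk (Spec.map ρ) rfl
    let cX : X' ≅ X := Over.isoMk X.left.isoSpec.symm (by
      show X.left.isoSpec.inv ≫ X.hom = Spec.map ρ ≫ hW.fromSpec ≫ T.hom
      rw [hρ, Category.assoc, reassoc_of% hl, Over.w x])
    have hx : cX.hom ≫ x = x' ≫ t₀ := Over.OverMorphism.ext (by
      show X.left.isoSpec.inv ≫ x.left = Spec.map ρ ≫ hW.fromSpec
      rw [hρ, Category.assoc, hl])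
    have h1 : MonoFam ((Red.DS S A ◁ x) ≫ u) ↔ ρ e = 1 := by
      refine Iff.trans ?_ (hiff _ ρ.hom x' rfl)
      rw [← hx]
      constructor
      · intro h
        rw [MonoidalCategory.whiskerLeft_comp, Category.assoc]
        exact h.restrict _
      · intro h
        have h2 := h.restrict cX.inv
        rw [← Category.assoc, ← MonoidalCategory.whiskerLeft_comp, Iso.inv_hom_id_assoc] at h2
        exact h2
    rw [h1]
    have hidem : IsIdempotentElem (ρ e) := IsIdempotentElem.map he ρ.hom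
    have h2 : ρ e = 1 ↔ (X.left.basicOpen (ρ e)) = ⊤ := by
      refine ⟨fun h => by rw [h]; exact X.left.basicOpen_of_isUnit isUnit_one, fun h => ?_⟩
      refine IsUnit.mul_eq_left ?_ |>.1 hidem
      exact X.left.toRingedSpace.isUnit_of_isUnit_germ ⊤ _ fun p hp => by
        have : p ∈ X.left.basicOpen (ρ e) := by rw [h]; trivial
        exact (X.left.mem_basicOpen_top _ p).mp this
    rw [h2]
    have h3 : X.left.basicOpen (ρ e) = x.left ⁻¹ᵁ (T.left.basicOpen e) := by
      rw [← hl, Scheme.Hom.comp_preimage, hW.fromSpec_preimage_basicOpen]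
      have h4 : PrimeSpectrum.basicOpen (ρ e) = Spec.map ρ ⁻¹ᵁ PrimeSpectrum.basicOpen e := rfl
      rw [hρ] at h4
      refine (X.left.toSpecΓ_preimage_basicOpen (ρ e)).symm.trans ?_
      refine (congrArg (X.left.toSpecΓ ⁻¹ᵁ ·) h4).trans ?_
      show X.left.toSpecΓ ⁻¹ᵁ ((X.left.isoSpec.inv ≫ l) ⁻¹ᵁ _) = _
      rw [← Scheme.Hom.comp_preimage, ← Scheme.isoSpec_hom, Iso.hom_inv_id_assoc]
    rw [h3]
    constructor
    · intro h p
      have : p ∈ x.left ⁻¹ᵁ (T.left.basicOpen e) := by rw [h]; trivial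
      exact this
    · intro h
      exact eq_top_iff.2 fun p _ => h p
  -- points of the locus in a chart
  have hLW : ∀ (W : T.left.Opens) (hW : IsAffineOpen W), ∀ w ∈ W,
      (w ∈ L ↔ w ∈ T.left.basicOpen ((hchart W hW).choose)) := by
    intro W hW w hw
    have h := (hchart W hW).choose_spec.2 _ (pt w) (inferInstanceAs (IsAffine (Spec _))) (fun p => by
      show T.left.fromSpecResidueField w p ∈ W
      rw [Scheme.fromSpecResidueField_apply]; exact hw)
    refine h.trans ⟨fun h' => ?_, fun h' p => ?_⟩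
    · have := h' (IsLocalRing.closedPoint (T.left.residueField w))
      rwa [show (pt w).left (IsLocalRing.closedPoint (T.left.residueField w)) = w from
        Scheme.fromSpecResidueField_apply w _] at this
    · show T.left.fromSpecResidueField w p ∈ _
      rw [Scheme.fromSpecResidueField_apply]; exact h'
  have hLopen : IsOpen L := by
    refine isOpen_iff_forall_mem_open.2 fun w hw => ?_
    obtain ⟨W, hW, hwW, -⟩ := exists_isAffineOpen_mem_and_subset (x := w) (U := (⊤ : T.left.Opens)) trivial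
    exact ⟨T.left.basicOpen (hchart W hW).choose, fun p hp => (hLW W hW p (T.left.basicOpen_le _ hp)).2 hp,
      (T.left.basicOpen _).2, (hLW W hW w hwW).1 hw⟩
  have hLclosed : IsClosed L := by
    rw [← isOpen_compl_iff]
    refine isOpen_iff_forall_mem_open.2 fun w hw => ?_
    obtain ⟨W, hW, hwW, -⟩ := exists_isAffineOpen_mem_and_subset (x := w) (U := (⊤ : T.left.Opens)) trivial
    let e := (hchart W hW).choose
    have he : IsIdempotentElem e := (hchart W hW).choose_spec.1
    refine ⟨T.left.basicOpen (1 - e), fun p hp hpL => ?_, (T.left.basicOpen _).2, ?_⟩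
    · have h1 : p ∈ T.left.basicOpen e := (hLW W hW p (T.left.basicOpen_le _ hp)).1 hpL
      have h2 : p ∈ T.left.basicOpen (e * (1 - e)) := by rw [Scheme.basicOpen_mul]; exact ⟨h1, hp⟩
      rw [he.mul_one_sub_self, Scheme.basicOpen_zero] at h2
      exact h2
    · have hwe : w ∉ T.left.basicOpen e := fun h => hw ((hLW W hW w hwW).2 h)
      show w ∈ T.left.basicOpen (1 - e)
      rw [Scheme.mem_basicOpen _ _ _ hwW] at hwe ⊢
      rcases IsLocalRing.isUnit_or_isUnit_of_add_one
        (a := T.left.presheaf.germ W w hwW e) (b := T.left.presheaf.germ W w hwW (1 - e))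
        (by rw [← map_add, add_sub_cancel, map_one]) with h | h
      · exact absurd h hwe
      · exact h
  refine ⟨⟨L, hLopen⟩, hLclosed, fun X x => ⟨fun hm p => ?_, fun h => ?_⟩⟩
  · obtain ⟨W, hW, hwW, -⟩ := exists_isAffineOpen_mem_and_subset (x := x.left p) (U := (⊤ : T.left.Opens)) trivial
    obtain ⟨V, hV, hpV, hVW⟩ := exists_isAffineOpen_mem_and_subset (x := p) (U := x.left ⁻¹ᵁ W) hwW
    let j : Over.mk (V.ι ≫ X.hom) ⟶ X := Over.homMk V.ι rfl
    have hmj : MonoFam ((Red.DS S A ◁ (j ≫ x)) ≫ u) := by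
      rw [MonoidalCategory.whiskerLeft_comp, Category.assoc]
      exact hm.restrict j
    exact (hLW W hW _ hwW).2 (((hchart W hW).choose_spec.2 _ (j ≫ x) hV (fun q => hVW q.2)).1 hmj ⟨p, hpV⟩)
  · have hV : ∀ p, ∃ (W : T.left.Opens) (hW : IsAffineOpen W) (V : X.left.Opens),
        IsAffineOpen V ∧ p ∈ V ∧ V ≤ x.left ⁻¹ᵁ W := fun p => by
      obtain ⟨W, hW, hwW, -⟩ := exists_isAffineOpen_mem_and_subset (x := x.left p) (U := (⊤ : T.left.Opens)) trivial
      obtain ⟨V, hV, hpV, hVW⟩ := exists_isAffineOpen_mem_and_subset (x := p) (U := x.left ⁻¹ᵁ W) hwW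
      exact ⟨W, hW, V, hV, hpV, hVW⟩
    choose W hW V hV hpV hVW using hV
    refine monoFam_of_cover u x V (fun p => ⟨p, hpV p⟩) fun i => ?_
    exact ((hchart (W i) (hW i)).choose_spec.2 (Over.mk ((V i).ι ≫ X.hom))
      ((Over.homMk (V i).ι rfl : Over.mk ((V i).ι ≫ X.hom) ⟶ X) ≫ x) (hV i) (fun q => hVW i q.2)).2 fun q =>
      (hLW (W i) (hW i) _ (hVW i q.2)).1 (h _)

end Groth.Agent.FMult38
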