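import Groth.Agent.SGA3a.QuotGrp
import Groth.Agent.SGA3a.QuotDiag
import Groth.Agent.RedPts82.Coord

/-!
Subobjects of `G ⊗ T` compared through their points: restriction, descent along coverings, and the
classifying maps of a family of subobjects.
-/

set_option autoImplicit false
set_option backward.isDefEq.respectTransparency.types false
universe u

open CategoryTheory MonoidalCategory CartesianMonoidalCategory AlgebraicGeometry
open CategoryTheory.Limits

noncomputable section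

namespace Groth.Agent.FMult38

open SGA3a.QuotCover

variable {S : Scheme.{u}}

/-- A flat surjective morphism locally of finite presentation is covering. -/
theorem isCov_of_fppf {X Y : Scheme.{u}} (f : X ⟶ Y) [Flat f] [LocallyOfFinitePresentation f] [Surjective f] :
    IsCov f := by
  refine IsCov.mk f ⟨X, f, 𝟙 X, Category.id_comp f, inferInstance, inferInstance, fun V hV => ?_⟩
  classical
  choose W hW hxW hWV using fun x : f ⁻¹ᵁ V =>
    exists_isAffineOpen_mem_and_subset (U := f ⁻¹ᵁ V) (x := x.1) x.2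
  obtain ⟨s, hs⟩ := hV.isCompact.elim_finite_subcover (fun x => f.base '' (W x : Set X))
    (fun x => f.isOpenMap _ (W x).2) (fun y hy => by
      obtain ⟨x, rfl⟩ := f.surjective y
      exact Set.mem_iUnion.2 ⟨⟨x, hy⟩, x, hxW ⟨x, hy⟩, rfl⟩)
  refine ⟨⨆ x ∈ s, W x, ?_, le_antisymm ?_ ?_⟩
  · simp only [TopologicalSpace.Opens.coe_iSup]
    exact s.finite_toSet.isCompact_biUnion fun x _ => (hW x).isCompact
  · rintro _ ⟨x, hx, rfl⟩
    simp only [TopologicalSpace.Opens.coe_iSup, Set.mem_iUnion] at hx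
    obtain ⟨i, -, hi⟩ := hx
    exact hWV i hi
  · refine hs.trans ?_
    simp only [TopologicalSpace.Opens.coe_iSup, Set.image_iUnion]
    exact le_rfl

/-- The point `x` factors through `m`. -/
def Fac {Z X Y : Over S} (m : Z ⟶ Y) (x : X ⟶ Y) : Prop := ∃ p, p ≫ m = x

theorem Fac.comp {Z X Y : Over S} {m : Z ⟶ Y} {x : X ⟶ Y} (h : Fac m x) {X' : Over S} (a : X' ⟶ X) :
    Fac m (a ≫ x) := by
  obtain ⟨p, rfl⟩ := h
  exact ⟨a ≫ p, Category.assoc _ _ _⟩

/-- Factoring through a monomorphism may be checked after a covering. -/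
theorem Fac.of_cov {Z X X' Y : Over S} {m : Z ⟶ Y} [Mono m] {x : X ⟶ Y} (c : X' ⟶ X) (hc : IsCov c.left)
    (h : Fac m (c ≫ x)) : Fac m x := by
  obtain ⟨p, hp⟩ := h
  obtain ⟨g, hg⟩ := exists_desc c hc p fun U a b e => by
    rw [← cancel_mono m, Category.assoc, Category.assoc, hp, reassoc_of% e]
  haveI := epi_of_isCov c hc
  exact ⟨g, by rw [← cancel_epi c, ← Category.assoc, hg, hp]⟩

variable {G : Over S}

theorem lift_whisker {X T M : Over S} (x : X ⟶ G ⊗ T) (v : T ⟶ M) :
    x ≫ (G ◁ v) = CartesianMonoidalCategory.lift (x ≫ fst G T) (x ≫ snd G T ≫ v) := by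
  apply CartesianMonoidalCategory.hom_ext <;> simp

/-- The subobject `m` over `T` is the pullback of the subobject `n` over `M` along `v`. -/
def Same {Z Q T M : Over S} (m : Z ⟶ G ⊗ T) (n : Q ⟶ G ⊗ M) (v : T ⟶ M) : Prop :=
  ∀ (X : Over S) (x : X ⟶ G ⊗ T), Fac m x ↔ Fac n (x ≫ (G ◁ v))

/-- Two maps pulling a subobject back to the same subobject. -/
def Agree {Q T M : Over S} (n : Q ⟶ G ⊗ M) (v v' : T ⟶ M) : Prop :=
  ∀ (X : Over S) (x : X ⟶ G ⊗ T), Fac n (x ≫ (G ◁ v)) ↔ Fac n (x ≫ (G ◁ v'))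

theorem whisker_comp_eq {X T T' M : Over S} (x : X ⟶ G ⊗ T) (w : T ⟶ T') (v : T' ⟶ M) :
    x ≫ (G ◁ (w ≫ v)) = (x ≫ (G ◁ w)) ≫ (G ◁ v) := by
  rw [Category.assoc, ← MonoidalCategory.whiskerLeft_comp]

theorem Agree.comp {Q T T' M : Over S} {n : Q ⟶ G ⊗ M} {v v' : T ⟶ M} (h : Agree n v v') (w : T' ⟶ T) :
    Agree n (w ≫ v) (w ≫ v') := fun X x => by
  rw [whisker_comp_eq, whisker_comp_eq]
  exact h X _

theorem Agree.symm {Q T M : Over S} {n : Q ⟶ G ⊗ M} {v v' : T ⟶ M} (h : Agree n v v') : Agree n v' v :=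
  fun X x => (h X x).symm

theorem Agree.trans {Q T M : Over S} {n : Q ⟶ G ⊗ M} {v v' v'' : T ⟶ M} (h : Agree n v v')
    (h' : Agree n v' v'') : Agree n v v'' := fun X x => (h X x).trans (h' X x)

/-- The pullback of a point along a map of parameters. -/
theorem exists_cov_point {X T T' : Over S} (c : T' ⟶ T) (hc : IsCov c.left) (x : X ⟶ G ⊗ T) :
    ∃ (X' : Over S) (a : X' ⟶ X) (x' : X' ⟶ G ⊗ T'), IsCov a.left ∧ x' ≫ (G ◁ c) = a ≫ x := by
  let P := pullback (x ≫ snd G T) c
  have h1 : IsPullback (pullback.fst (x ≫ snd G T) c).left (pullback.snd (x ≫ snd G T) c).left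
      (x ≫ snd G T).left c.left :=
    (IsPullback.of_hasPullback (x ≫ snd G T) c).map (Over.forget S)
  refine ⟨P, pullback.fst _ _, CartesianMonoidalCategory.lift (pullback.fst _ _ ≫ x ≫ fst G T) (pullback.snd _ _),
    IsCov.of_isPullback h1.flip hc, ?_⟩
  rw [lift_whiskerLeft]
  apply CartesianMonoidalCategory.hom_ext
  · rw [lift_fst, Category.assoc]
  · rw [lift_snd, Category.assoc, ← pullback.condition]

/-- Agreement may be checked after a covering. -/
theorem Agree.of_cov {Q T T' M : Over S} {n : Q ⟶ G ⊗ M} [Mono n] {v v' : T ⟶ M} (c : T' ⟶ T)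
    (hc : IsCov c.left) (h : Agree n (c ≫ v) (c ≫ v')) : Agree n v v' := fun X x => by
  obtain ⟨X', a, x', ha, hx'⟩ := exists_cov_point c hc x
  have hk := h X' x'
  rw [whisker_comp_eq, whisker_comp_eq, hx', Category.assoc, Category.assoc] at hk
  exact ⟨fun hf => (hk.1 (hf.comp a)).of_cov a ha, fun hf => (hk.2 (hf.comp a)).of_cov a ha⟩

/-- Being the pullback may be checked after a covering. -/
theorem Same.of_cov {Z Q T T' M : Over S} {m : Z ⟶ G ⊗ T} [Mono m] {n : Q ⟶ G ⊗ M} [Mono n] (v : T ⟶ M)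
    (c : T' ⟶ T) (hc : IsCov c.left)
    (h : ∀ (X : Over S) (x : X ⟶ G ⊗ T'), Fac m (x ≫ (G ◁ c)) ↔ Fac n (x ≫ (G ◁ (c ≫ v)))) : Same m n v :=
  fun X x => by
  obtain ⟨X', a, x', ha, hx'⟩ := exists_cov_point c hc x
  have hk := h X' x'
  rw [whisker_comp_eq, hx', Category.assoc] at hk
  exact ⟨fun hf => (hk.1 (hf.comp a)).of_cov a ha, fun hf => (hk.2 (hf.comp a)).of_cov a ha⟩

/-- Classifying maps to a quotient of an atlas of subobjects. -/
theorem existsUnique_classify {Z_U U Q M T : Over S} (mU : Z_U ⟶ G ⊗ U) (mK : Q ⟶ G ⊗ M) [Mono mK] (π : U ⟶ M)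
    (hπ : IsCov π.left) (hUK : Same mU mK π)
    (hrel : ∀ (T : Over S) (p q : T ⟶ U), Agree mU p q → p ≫ π = q ≫ π)
    {Z : Over S} (m : Z ⟶ G ⊗ T) [Mono m] {T' : Over S} (c : T' ⟶ T) (hc : IsCov c.left) (p : T' ⟶ U)
    (hp : ∀ (X : Over S) (x : X ⟶ G ⊗ T'), Fac m (x ≫ (G ◁ c)) ↔ Fac mU (x ≫ (G ◁ p))) :
    ∃! v : T ⟶ M, Same m mK v := by
  have hUK' : ∀ {T' : Over S} (a b : T' ⟶ U), Agree mK (a ≫ π) (b ≫ π) → Agree mU a b := fun a b h X x => by
    rw [hUK _ _, hUK _ _, ← whisker_comp_eq, ← whisker_comp_eq]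
    exact h X x
  have huniq : ∀ (v v' : T ⟶ M), Same m mK v → Same m mK v' → v = v' := by
    intro v v' hv hv'
    have hA : Agree mK v v' := fun X x => (hv X x).symm.trans (hv' X x)
    let c₁ : pullback v π ⟶ T := pullback.fst _ _
    let c₂ : pullback (c₁ ≫ v') π ⟶ pullback v π := pullback.fst _ _
    have hc₁ : IsCov c₁.left :=
      IsCov.of_isPullback ((IsPullback.of_hasPullback v π).map (Over.forget S)).flip hπ
    have hc₂ : IsCov c₂.left :=
      IsCov.of_isPullback ((IsPullback.of_hasPullback (c₁ ≫ v') π).map (Over.forget S)).flip hπ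
    have := epi_of_isCov c₁ hc₁
    have := epi_of_isCov c₂ hc₂
    have h1 : c₁ ≫ v = pullback.snd v π ≫ π := pullback.condition
    have h2 : c₂ ≫ c₁ ≫ v' = pullback.snd (c₁ ≫ v') π ≫ π := pullback.condition
    rw [← cancel_epi c₁, ← cancel_epi c₂, h1, h2, ← Category.assoc]
    refine hrel _ _ _ (hUK' _ _ ?_)
    rw [Category.assoc, ← h1, ← h2]
    exact (hA.comp c₁).comp c₂
  obtain ⟨v, hv⟩ := exists_desc c hc (p ≫ π) fun V a b hab => by
    rw [← Category.assoc, ← Category.assoc]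
    refine hrel _ _ _ fun X x => ?_
    rw [whisker_comp_eq, whisker_comp_eq, ← hp, ← hp, ← whisker_comp_eq, ← whisker_comp_eq, hab]
  refine ⟨v, Same.of_cov v c hc fun X x => ?_, fun v' hv' => huniq v' v hv' (Same.of_cov v c hc fun X x => ?_)⟩
  all_goals rw [hv, hp, hUK _ _, ← whisker_comp_eq]

/-- A disjoint union in the category of schemes over the base. -/
abbrev sigmaO {ι : Type u} (T : ι → Over S) : Over S := Over.mk (Sigma.desc fun i => (T i).hom)

/-- An inclusion into a disjoint union. -/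
def inclO {ι : Type u} (T : ι → Over S) (i : ι) : T i ⟶ sigmaO T :=
  Over.homMk (Sigma.ι (fun i => (T i).left) i) (Sigma.ι_desc (fun i => (T i).hom) i)

/-- The map out of a disjoint union. -/
def descO {ι : Type u} {T : ι → Over S} {Y : Over S} (f : ∀ i, T i ⟶ Y) : sigmaO T ⟶ Y :=
  Over.homMk (Sigma.desc fun i => (f i).left) (Sigma.hom_ext _ _ fun i => by
    simp only [Sigma.ι_desc_assoc, Over.w]
    exact (Sigma.ι_desc (fun i => (T i).hom) i).symm)

@[reassoc (attr := simp)]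
theorem inclO_descO {ι : Type u} {T : ι → Over S} {Y : Over S} (f : ∀ i, T i ⟶ Y) (i : ι) :
    inclO T i ≫ descO f = f i :=
  Over.OverMorphism.ext (Sigma.ι_desc (fun i => (f i).left) i)

theorem hom_ext_sigmaO {ι : Type u} {T : ι → Over S} {Y : Over S} {f g : sigmaO T ⟶ Y}
    (h : ∀ i, inclO T i ≫ f = inclO T i ≫ g) : f = g :=
  Over.OverMorphism.ext (Sigma.hom_ext _ _ fun i => congrArg CommaMorphism.left (h i))

/-- An etale jointly surjective family gives a covering of the disjoint union. -/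
theorem isCov_descO {ι : Type u} {T : ι → Over S} {Y : Over S} (f : ∀ i, T i ⟶ Y)
    [∀ i, Flat (f i).left] [∀ i, LocallyOfFinitePresentation (f i).left]
    (h : ∀ y : Y.left, ∃ i, y ∈ Set.range (f i).left) : IsCov (descO f).left := by
  haveI : Flat (descO f).left := IsZariskiLocalAtSource.sigmaDesc inferInstance
  haveI : LocallyOfFinitePresentation (descO f).left := IsZariskiLocalAtSource.sigmaDesc inferInstance
  haveI : Surjective (descO f).left := ⟨fun y => by
    obtain ⟨i, x, hx⟩ := h y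
    refine ⟨Sigma.ι (fun i => (T i).left) i x, ?_⟩
    rw [← Scheme.Hom.comp_apply]
    exact (congrArg (fun k : (T i).left ⟶ Y.left => k x) (Sigma.ι_desc (fun i => (f i).left) i)).trans hx⟩
  exact isCov_of_fppf _

end Groth.Agent.FMult38
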